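import Cfsg.Agent.Lib.OddChar.SL2.Torus

/-! The cuspidal characters of `SL₂(q)`, `q` odd, as `(St - 1) ⊗ R(α) - Ind θ`. -/

set_option autoImplicit false
set_option maxHeartbeats 800000

namespace Cfsg.Agent.Lib.OddChar.SL2

open scoped ComplexConjugate
open Matrix Cfsg Cfsg.Agent.Lib.Characters Cfsg.Agent.Lib.KnownA
open Cfsg.Agent.Lib.Geometry.Dickson (cell cellNorm IsSplit)
open Cfsg.Agent.Lib.SL2Trace (tr)

variable {F : Type*} [Field F] [Fintype F] [DecidableEq F]

local notation "SL2" => Matrix.SpecialLinearGroup (Fin 2) F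
local notation "qq" => ((Fintype.card F : ℕ) : ℂ)

omit [Fintype F] [DecidableEq F] in
theorem bSL_negOne (c : F) : bSL (-1 : Fˣ) c = negOne F * uni (-c) := by
  apply Subtype.ext
  change (bSL (-1 : Fˣ) c : Matrix (Fin 2) (Fin 2) F) = _
  rw [negOne_mul_coe, bSL_coe, uni_coe]
  ext i j
  fin_cases i <;> fin_cases j <;> simp

omit [Fintype F] [DecidableEq F] in
theorem isSplit_bSL (a : Fˣ) (c : F) : IsSplit (bSL a c) := by
  refine ⟨(a : F), ?_⟩
  rw [Cfsg.Agent.Lib.SL2Trace.tr_eq, bSL_coe]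
  simp
  field_simp
  ring

omit [Fintype F] [DecidableEq F] in
theorem isConj_bSL_of_isSplit {g : SL2} (hg : IsSplit g) : ∃ (a : Fˣ) (c : F), IsConj g (bSL a c) := by
  have key : ∀ k : SL2, (k : Matrix (Fin 2) (Fin 2) F) 1 0 = 0 → ∃ (a : Fˣ) (c : F), k = bSL a c := by
    intro k hk
    have hd := k.det_coe
    rw [Matrix.det_fin_two, hk, mul_zero, sub_zero] at hd
    refine ⟨Units.mk0 _ (left_ne_zero_of_mul_eq_one hd), (k : Matrix (Fin 2) (Fin 2) F) 0 1, Subtype.ext ?_⟩
    change (k : Matrix (Fin 2) (Fin 2) F) = ((bSL _ _ : SL2) : Matrix (Fin 2) (Fin 2) F)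
    rw [bSL_coe]
    have := eq_inv_of_mul_eq_one_right hd
    ext i j
    fin_cases i <;> fin_cases j <;> simp [hk, this]
  by_cases h10 : (g : Matrix (Fin 2) (Fin 2) F) 1 0 = 0
  · obtain ⟨a, c, e⟩ := key g h10
    exact ⟨a, c, e ▸ IsConj.refl g⟩
  obtain ⟨r, hr⟩ := hg
  rw [Cfsg.Agent.Lib.SL2Trace.tr_eq] at hr
  have hd := Cfsg.Agent.Lib.SL2Trace.det_eq g
  let x := (r - (g : Matrix (Fin 2) (Fin 2) F) 1 1) / (g : Matrix (Fin 2) (Fin 2) F) 1 0
  have hk : (((lineRepSL (some x))⁻¹ * g * lineRepSL (some x) : SL2) : Matrix (Fin 2) (Fin 2) F) 1 0 = 0 := by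
    simp only [Matrix.SpecialLinearGroup.coe_mul, inv_lineRepSL_some, lineRepSL_some_coe]
    simp [Matrix.mul_apply, Matrix.vecMul, dotProduct, Fin.sum_univ_two, x]
    field_simp
    linear_combination hr + hd
  obtain ⟨a, c, e⟩ := key _ hk
  exact ⟨a, c, e ▸ isConj_iff.mpr ⟨(lineRepSL (some x))⁻¹, by group⟩⟩

omit [Fintype F] [DecidableEq F] in
theorem notMem_center_bSL {a : Fˣ} {c : F} (h : a ≠ a⁻¹ ∨ c ≠ 0) : bSL a c ∉ Subgroup.center SL2 := by
  intro hz
  rcases mem_center_iff'.mp hz with e | e <;>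
    have e2 := congrArg (fun k : SL2 => (k : Matrix (Fin 2) (Fin 2) F)) e <;>
    have e00 := congrFun (congrFun e2 0) 0 <;> have e01 := congrFun (congrFun e2 0) 1 <;>
    simp [bSL_coe, negOne_coe] at e00 e01 <;> rcases h with h | h
  · exact h (Units.ext (by simp [e00]))
  · exact h e01
  · exact h (Units.ext (by simp [e00, inv_neg]))
  · exact h e01

theorem eq_inv_iff_sign {a : Fˣ} : a = a⁻¹ ↔ a = 1 ∨ a = -1 := by
  constructor
  · intro h
    have h2 : (a : F) * a = 1 := by
      have : a * a = 1 := by nth_rewrite 2 [h]; exact mul_inv_cancel a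
      simpa using congrArg Units.val this
    rcases mul_self_eq_one_iff.mp h2 with e | e
    · exact Or.inl (Units.ext e)
    · exact Or.inr (Units.ext (by simpa using e))
  · rintro (rfl | rfl) <;> simp

/-- `(St - 1) ⊗ R(α)`. -/
noncomputable def qChar (α : MulChar F ℂ) : SL2 → ℂ := (steinSL F - trivSL F) * indSL α

theorem isGen_qChar (α : MulChar F ℂ) : IsGeneralizedCharacter SL2 (qChar α) :=
  IsGeneralizedCharacter.mul
    (IsGeneralizedCharacter.sub (IsCharacter.isGeneralizedCharacter (IsIrrCharacter.isCharacter isIrr_steinSL))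
      (IsCharacter.isGeneralizedCharacter (IsIrrCharacter.isCharacter isIrr_trivSL)))
    (IsCharacter.isGeneralizedCharacter (isCharacter_indSL α))

theorem indSL_sign (α : MulChar F ℂ) {a : Fˣ} (ha : a = a⁻¹) (c : F) :
    indSL α (bSL a c) = if c = 0 then (qq + 1) * α (a : F) else α (a : F) := by
  have hsub : ((a⁻¹ : Fˣ) : F) - a = 0 := by rw [← ha, sub_self]
  rw [indSL_apply]
  simp only [bSL_coe, qv]
  split_ifs with h10 hc <;> simp_all [← ha] <;> (try split_ifs) <;> ring

theorem qChar_sign (α : MulChar F ℂ) {a : Fˣ} (ha : a = a⁻¹) (c : F) :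
    qChar α (bSL a c) = if c = 0 then (qq - 1) * (qq + 1) * α (a : F) else -α (a : F) := by
  have h1 : (1 : MulChar F ℂ) (a : F) = 1 := MulChar.one_apply_coe a
  simp only [qChar, Pi.mul_apply, Pi.sub_apply, steinSL, trivSL, indSL_sign _ ha, h1]
  split_ifs <;> ring

theorem qChar_diag (α : MulChar F ℂ) {a : Fˣ} (ha : a ≠ a⁻¹) (c : F) : qChar α (bSL a c) = 0 := by
  have hcl := IsCharacter.isClassFunction (IsIrrCharacter.isCharacter (isIrr_steinSL (F := F)))
  have h2 : ((a⁻¹ : Fˣ) : F) ^ 2 ≠ 1 := fun h => ha (by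
    have h3 : a⁻¹ ^ 2 = 1 := Units.ext (by rw [Units.val_pow_eq_pow_val, h, Units.val_one])
    rw [inv_pow, inv_eq_one, sq] at h3
    exact mul_eq_one_iff_eq_inv.mp h3)
  have hs : steinSL F (bSL a c) = 1 := by
    rw [IsClassFunction.eq_of_isConj hcl (isConj_bSL_inv a ha c)]
    exact steinSL_diag (by simp [bSL_coe]) (by simp [bSL_coe]) (by simpa [bSL_coe] using h2)
  simp [qChar, hs, trivSL]

theorem qChar_noEigen (α : MulChar F ℂ) {g : SL2}
    (h : ∀ (c : F) (v : Fin 2 → F), v ≠ 0 → (g : Matrix (Fin 2) (Fin 2) F).mulVec v ≠ c • v) :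
    qChar α g = 0 := by simp [qChar, indSL_noEigen α h]

theorem classInner_qChar_sum (f : Fˣ → F → ℂ) (hodd : Odd (Fintype.card F))
    (h0 : ∀ a : Fˣ, a ≠ a⁻¹ → ∀ c, f a c = 0) :
    ∑ x : Fˣ × F, f x.1 x.2 = (∑ c, f 1 c) + ∑ c, f (-1) c := by
  classical
  rw [Fintype.sum_prod_type, Fintype.sum_eq_add (1 : Fˣ) (-1)]
  · intro h
    have := congrArg Units.val h
    simp at this
    exact two_ne_zero_of_odd hodd (by linear_combination this)
  · intro a ha
    exact Finset.sum_eq_zero fun c _ => h0 a (fun e => (eq_inv_iff_sign.mp e).elim ha.1 ha.2) c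

theorem indSL_mul (α : MulChar F ℂ) {φ : SL2 → ℂ} (hφ : IsClassFunction SL2 φ) :
    φ * indSL α = Cfsg.indFun (borelSL F) ((fun b : borelSL F => α (((b : SL2) : Matrix (Fin 2) (Fin 2) F) 0 0)) * fun b : borelSL F => φ b) := by
  rw [indFun_mul_restrict _ _ hφ, mul_comm]
  rfl

/-- Inner product of `qChar α` with a class function, as a sum over the two central cosets. -/
theorem classInner_qChar (hodd : Odd (Fintype.card F)) (α : MulChar F ℂ) {φ : SL2 → ℂ}
    (hφ : IsClassFunction SL2 φ) :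
    classInner (qChar α) φ = (((Fintype.card F - 1) * Fintype.card F : ℕ) : ℂ)⁻¹ *
      ((qq * conj (φ (bSL 1 0)) - ∑ c, conj (φ (bSL 1 c))) +
        α (-1 : F) * (qq * conj (φ (bSL (-1) 0)) - ∑ c, conj (φ (bSL (-1) c)))) := by
  classical
  have hcl : IsClassFunction SL2 (steinSL F - trivSL F) :=
    IsClassFunction.sub (IsCharacter.isClassFunction (IsIrrCharacter.isCharacter isIrr_steinSL))
      (IsCharacter.isClassFunction (IsIrrCharacter.isCharacter isIrr_trivSL))
  rw [qChar, indSL_mul α hcl, classInner_indFun _ _ hφ, classInner, ← Nat.card_congr (borelEquivSL (F := F)),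
    ← borelEquivSL.sum_comp, Nat.card_eq_fintype_card, Fintype.card_prod, Fintype.card_units]
  congr 1
  simp only [borelEquivSL_coe, Pi.mul_apply]
  rw [classInner_qChar_sum (fun a c => α ((bSL a c : Matrix (Fin 2) (Fin 2) F) 0 0) *
    (steinSL F - trivSL F) (bSL a c) * conj (φ (bSL a c))) hodd]
  · have key : ∀ a : Fˣ, a = a⁻¹ → ∑ c : F, α ((bSL a c : Matrix (Fin 2) (Fin 2) F) 0 0) *
        (steinSL F - trivSL F) (bSL a c) * conj (φ (bSL a c)) =
        α (a : F) * (qq * conj (φ (bSL a 0)) - ∑ c, conj (φ (bSL a c))) := by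
      intro a ha
      have hS : ∀ c, (steinSL F - trivSL F) (bSL a c) = (if c = 0 then qq else 0) - 1 := by
        intro c
        have h1 : (1 : MulChar F ℂ) (a : F) = 1 := MulChar.one_apply_coe a
        simp only [Pi.sub_apply, steinSL, trivSL, indSL_sign _ ha, h1]
        split_ifs <;> ring
      simp only [hS, bSL_coe, mul_sub, sub_mul, Finset.sum_sub_distrib]
      simp [Finset.mul_sum, mul_assoc]
    rw [key 1 (by simp), key (-1) (by simp)]
    simp
  · intro a ha c
    have h := qChar_diag (1 : MulChar F ℂ) ha c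
    simp only [qChar, Pi.mul_apply, mul_eq_zero] at h
    rcases h with h | h
    · rw [h]; ring
    · exfalso
      have hcl1 := IsCharacter.isClassFunction (isCharacter_indSL (1 : MulChar F ℂ))
      have h2 : csumSL (indSL (1 : MulChar F ℂ)) a = 0 := by
        rw [csumSL, Finset.sum_congr rfl fun d _ => IsClassFunction.eq_of_isConj hcl1 (isConj_bSL_inv a ha d),
          ← IsClassFunction.eq_of_isConj hcl1 (isConj_bSL_inv a ha c), h, Finset.sum_const_zero]
      rw [csumSL_indSL, MulChar.one_apply_coe, MulChar.one_apply_coe] at h2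
      norm_num at h2

theorem sum_if_zero (u v : ℂ) : ∑ c : F, (if c = 0 then u else v) = u + (qq - 1) * v := by
  rw [Finset.sum_eq_add_sum_sdiff_singleton_of_mem (Finset.mem_univ (0 : F)), if_pos rfl,
    Finset.sum_congr rfl fun c hc => if_neg (by simpa using hc), Finset.sum_const,
    Finset.card_sdiff_of_subset (Finset.subset_univ _), Finset.card_univ, Finset.card_singleton, nsmul_eq_mul,
    Nat.cast_sub Fintype.card_pos, Nat.cast_one]

theorem apply_neg_one_sq (α : MulChar F ℂ) : α (-1 : F) * α (-1 : F) = 1 := by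
  rw [← map_mul, neg_one_mul, neg_neg, map_one]

theorem conj_sign {x : ℂ} (h : x * x = 1) : conj x = x := by
  rcases mul_self_eq_one_iff.mp h with rfl | rfl <;> simp

theorem norm_qChar (hodd : Odd (Fintype.card F)) (α : MulChar F ℂ) :
    classInner (qChar α) (qChar α) = 2 * qq := by
  have h1 : (1 : Fˣ) = (1 : Fˣ)⁻¹ := by simp
  have h2 : (-1 : Fˣ) = (-1 : Fˣ)⁻¹ := by simp
  rw [classInner_qChar hodd α (IsGeneralizedCharacter.isClassFunction (isGen_qChar α))]
  simp only [qChar_sign α h1, qChar_sign α h2, if_pos, apply_ite conj, map_mul, map_sub, map_add, map_neg,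
    map_one, map_natCast, Units.val_one, Units.val_neg, conj_sign (apply_neg_one_sq α), sum_if_zero]
  have hsq := apply_neg_one_sq α
  have hq : (((Fintype.card F - 1) * Fintype.card F : ℕ) : ℂ) ≠ 0 := Nat.cast_ne_zero.mpr
    (Nat.mul_pos (by have := Fintype.one_lt_card (α := F); omega) Fintype.card_pos).ne'
  rw [inv_mul_eq_iff_eq_mul₀ hq]
  push_cast [Nat.cast_sub (show 1 ≤ Fintype.card F from Fintype.card_pos)]
  linear_combination ((qq - 1) * qq * qq) * hsq

variable {T : Subgroup (Matrix.SpecialLinearGroup (Fin 2) F)}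

/-- The candidate cuspidal character. -/
noncomputable def phi (T : Subgroup (Matrix.SpecialLinearGroup (Fin 2) F)) (α : MulChar F ℂ) (θ : T →* ℂˣ) :
    SL2 → ℂ := qChar α - indT T θ

theorem isGen_phi (α : MulChar F ℂ) (θ : T →* ℂˣ) : IsGeneralizedCharacter SL2 (phi T α θ) :=
  IsGeneralizedCharacter.sub (isGen_qChar α) (isGen_indT θ)

/-- The central value attached to `θ`. -/
noncomputable def eps (H : IsTorus T) (θ : T →* ℂˣ) : ℂ := ((θ ⟨negOne F, H.negOne_mem⟩ : ℂˣ) : ℂ)

theorem eps_sq (H : IsTorus T) (θ : T →* ℂˣ) : eps H θ * eps H θ = 1 := by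
  rw [eps, ← Units.val_mul, ← map_mul]
  have : (⟨negOne F, H.negOne_mem⟩ : T) * ⟨negOne F, H.negOne_mem⟩ = 1 := Subtype.ext negOne_sq
  rw [this, map_one, Units.val_one]

theorem bSL_negOne_zero : bSL (-1 : Fˣ) (0 : F) = negOne F := by
  rw [bSL_negOne, neg_zero, uni_zero, mul_one]

theorem phi_one (H : IsTorus T) (α : MulChar F ℂ) (θ : T →* ℂˣ) : phi T α θ 1 = qq - 1 := by
  have hQ : qChar α (1 : SL2) = (qq - 1) * (qq + 1) := by
    rw [show (1 : SL2) = bSL 1 0 by rw [bSL_one, uni_zero], qChar_sign α (by simp), if_pos rfl, Units.val_one,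
      map_one, mul_one]
  rw [phi, Pi.sub_apply, hQ, indT_central H θ (one_mem (Subgroup.center SL2)),
    show (⟨(1 : SL2), H.center_le (one_mem _)⟩ : T) = 1 from rfl, map_one, Units.val_one]
  ring

theorem phi_negOne (H : IsTorus T) {α : MulChar F ℂ} (θ : T →* ℂˣ) (hα : α (-1 : F) = eps H θ) :
    phi T α θ (negOne F) = (qq - 1) * eps H θ := by
  have hz : negOne F ∈ Subgroup.center SL2 := mem_center_iff'.mpr (Or.inr rfl)
  have hQ : qChar α (negOne F) = (qq - 1) * (qq + 1) * eps H θ := by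
    rw [← hα, ← bSL_negOne_zero, qChar_sign α (by simp), if_pos rfl, Units.val_neg, Units.val_one]
  rw [phi, Pi.sub_apply, hQ, indT_central H θ hz]
  simp only [eps]
  ring

theorem phi_bSL (H : IsTorus T) (α : MulChar F ℂ) (θ : T →* ℂˣ) {a : Fˣ} {c : F} (h : a ≠ a⁻¹ ∨ c ≠ 0) :
    phi T α θ (bSL a c) = if a = a⁻¹ then -α (a : F) else 0 := by
  rw [phi, Pi.sub_apply, indT_split H θ (isSplit_bSL a c) (notMem_center_bSL h), sub_zero]
  by_cases ha : a = a⁻¹
  · rw [qChar_sign α ha, if_neg (h.resolve_left (not_not_intro ha)), if_pos ha]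
  · rw [qChar_diag α ha, if_neg ha]

theorem phi_regular (H : IsTorus T) (α : MulChar F ℂ) (θ : T →* ℂˣ) (c : T)
    (hc : (c : SL2) ∉ Subgroup.center SL2) :
    phi T α θ c = -(((θ c : ℂˣ) : ℂ) + ((θ c⁻¹ : ℂˣ) : ℂ)) := by
  rw [phi, Pi.sub_apply, qChar_noEigen α (H.noEigen c.2 hc), indT_regular H θ c hc, zero_sub]

theorem classInner_indT_left [Fintype T] (θ : T →* ℂˣ) {φ : SL2 → ℂ} (hφ : IsClassFunction SL2 φ) :
    classInner (indT T θ) φ = (Nat.card T : ℂ)⁻¹ * ∑ t : T, ((θ t : ℂˣ) : ℂ) * conj (φ t) := by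
  rw [indT, classInner_indFun _ _ hφ]
  rfl

theorem sum_torus_ite [Fintype T] (H : IsTorus T) (f g : T → ℂ)
    (hg : ∀ t : T, (t : SL2) ∉ Subgroup.center SL2 → g t = f t) :
    ∑ t, g t = (∑ t, f t) + (g 1 - f 1) + (g ⟨negOne F, H.negOne_mem⟩ - f ⟨negOne F, H.negOne_mem⟩) := by
  classical
  rw [add_assoc, ← sub_eq_iff_eq_add', ← Finset.sum_sub_distrib, Fintype.sum_eq_add (1 : T) ⟨negOne F, H.negOne_mem⟩]
  · exact fun e => negOne_ne_one H.two_ne (congrArg Subtype.val e).symm
  · intro t ht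
    rw [sub_eq_zero]
    refine hg t fun hz => ?_
    rcases mem_center_iff'.mp hz with e | e
    · exact ht.1 (Subtype.ext e)
    · exact ht.2 (Subtype.ext e)

theorem conj_theta (θ : T →* ℂˣ) (t : T) : conj ((θ t : ℂˣ) : ℂ) = ((θ t⁻¹ : ℂˣ) : ℂ) := by
  have hp : ((θ t : ℂˣ) : ℂ) ^ Nat.card T = 1 := by
    rw [← Units.val_pow_eq_pow_val, ← map_pow, pow_card_eq_one', map_one, Units.val_one]
  have hn := norm_eq_one_of_pow_eq_one' Nat.card_pos.ne' hp
  rw [map_inv, Units.val_inv_eq_inv_val]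
  exact (Complex.inv_eq_conj hn).symm

theorem norm_indT [Fintype T] (H : IsTorus T) (θ : T →* ℂˣ) :
    classInner (indT T θ) (indT T θ) = (qq + 1)⁻¹ *
      (((∑ t : T, ((θ t : ℂˣ) : ℂ) ^ 2) + (qq + 1)) + 2 * (qq * (qq - 1) - 2)) := by
  rw [classInner_indT_left θ (IsGeneralizedCharacter.isClassFunction (isGen_indT θ)), H.card, Nat.cast_add,
    Nat.cast_one]
  congr 1
  have h1 : (1 : SL2) ∈ Subgroup.center SL2 := one_mem _
  have hn : negOne F ∈ Subgroup.center SL2 := mem_center_iff'.mpr (Or.inr rfl)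
  rw [sum_torus_ite H (fun t => ((θ t : ℂˣ) : ℂ) ^ 2 + 1)]
  · have e := eps_sq H θ
    simp only [eps] at e
    have ec := conj_sign e
    rw [Finset.sum_add_distrib, Finset.sum_const, Finset.card_univ, nsmul_eq_mul, mul_one,
      ← Nat.card_eq_fintype_card, H.card]
    simp only [OneMemClass.coe_one, indT_central H θ h1, indT_central H θ hn, map_mul, map_sub, map_one,
      map_natCast, ec, show (⟨(1 : SL2), H.center_le h1⟩ : T) = 1 from rfl, Units.val_one]
    push_cast
    linear_combination (qq * (qq - 1) - 1) * e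
  · intro t ht
    rw [indT_regular H θ t ht, map_add, conj_theta, conj_theta, inv_inv]
    have : ((θ t : ℂˣ) : ℂ) * ((θ t⁻¹ : ℂˣ) : ℂ) = 1 := by
      rw [← Units.val_mul, ← map_mul, mul_inv_cancel, map_one, Units.val_one]
    rw [mul_add, this, sq, add_comm]

theorem classInner_indT_qChar [Fintype T] (H : IsTorus T) {α : MulChar F ℂ} (θ : T →* ℂˣ)
    (hα : α (-1 : F) = eps H θ) : classInner (indT T θ) (qChar α) = 2 * (qq - 1) := by
  rw [classInner_indT_left θ (IsGeneralizedCharacter.isClassFunction (isGen_qChar α)), H.card]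
  rw [sum_torus_ite H (fun _ => 0)]
  · have e := eps_sq H θ
    have ec := conj_sign e
    have hq1 : qChar α (1 : SL2) = (qq - 1) * (qq + 1) := by
      rw [show (1 : SL2) = bSL 1 0 by rw [bSL_one, uni_zero], qChar_sign α (by simp), if_pos rfl, Units.val_one,
        map_one, mul_one]
    have hqn : qChar α (negOne F) = (qq - 1) * (qq + 1) * eps H θ := by
      rw [← hα, ← bSL_negOne_zero, qChar_sign α (by simp), if_pos rfl, Units.val_neg, Units.val_one]
    simp only [OneMemClass.coe_one, hq1, hqn, map_mul, map_sub, map_add, map_one, map_natCast, ec,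
      Units.val_one, Finset.sum_const_zero]
    rw [show ((θ ⟨negOne F, H.negOne_mem⟩ : ℂˣ) : ℂ) = eps H θ from rfl]
    push_cast
    have h0 : qq + 1 ≠ 0 := Nat.cast_add_one_ne_zero _
    field_simp
    linear_combination ((qq - 1) * (qq + 1)) * e
  · intro t ht
    rw [qChar_noEigen α (H.noEigen t.2 ht), map_zero, mul_zero]

theorem sum_theta_sq [Fintype T] (H : IsTorus T) (θ : T →* ℂˣ) :
    (∑ t : T, ((θ t : ℂˣ) : ℂ) ^ 2) = @ite ℂ (∀ t : T, θ t ^ 2 = 1) (Classical.propDecidable _) (qq + 1) 0 := by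
  classical
  split_ifs with h
  · rw [Finset.sum_congr rfl fun t _ => by rw [← Units.val_pow_eq_pow_val, h t, Units.val_one],
      Finset.sum_const, Finset.card_univ, nsmul_eq_mul, mul_one, ← Nat.card_eq_fintype_card, H.card,
      Nat.cast_add, Nat.cast_one]
  · have hc : IsCyclic T := H.cyclic
    letI := hc
    let f : T →* ℂ :=
      { toFun := fun t => ((θ t : ℂˣ) : ℂ) ^ 2
        map_one' := by simp
        map_mul' := fun a b => by rw [map_mul, Units.val_mul, mul_pow] }
    refine sum_hom_units_eq_zero f fun e => h fun t => Units.ext ?_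
    rw [Units.val_pow_eq_pow_val, Units.val_one]
    exact DFunLike.congr_fun e t

theorem norm_phi (H : IsTorus T) {α : MulChar F ℂ} (θ : T →* ℂˣ) (hα : α (-1 : F) = eps H θ) :
    classInner (phi T α θ) (phi T α θ) =
      @ite ℂ (∀ t : T, θ t ^ 2 = 1) (Classical.propDecidable _) 2 1 := by
  classical
  haveI := Fintype.ofFinite T
  have hQI : classInner (qChar α) (indT T θ) = 2 * (qq - 1) := by
    rw [← classInner_conj_symm, classInner_indT_qChar H θ hα]
    simp [map_ofNat]
  rw [phi, classInner_sub_left, classInner_sub_right, classInner_sub_right, norm_qChar H.odd, hQI,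
    classInner_indT_qChar H θ hα, norm_indT H θ, sum_theta_sq H θ]
  have h0 : qq + 1 ≠ 0 := Nat.cast_add_one_ne_zero _
  split_ifs <;> field_simp <;> ring

theorem classInner_qChar_cusp (hodd : Odd (Fintype.card F)) (α : MulChar F ℂ) {χ : SL2 → ℂ}
    (hcl : IsClassFunction SL2 χ) (hc : CuspSL χ) :
    classInner (qChar α) χ = (qq - 1)⁻¹ * (conj (χ 1) + α (-1 : F) * conj (χ (negOne F))) := by
  have hz : ∀ a : Fˣ, ∑ c : F, conj (χ (bSL a c)) = 0 := fun a => by
    rw [← map_sum]
    have h := hc a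
    rw [csumSL] at h
    rw [h, map_zero]
  rw [classInner_qChar hodd α hcl, hz, hz, sub_zero, sub_zero, bSL_negOne_zero, bSL_one, uni_zero]
  have hq : qq ≠ 0 := Nat.cast_ne_zero.mpr Fintype.card_ne_zero
  have hq1 : qq - 1 ≠ 0 := by
    rw [sub_ne_zero, Nat.cast_ne_one]
    have := Fintype.one_lt_card (α := F)
    omega
  push_cast [Nat.cast_sub (show 1 ≤ Fintype.card F from Fintype.card_pos)]
  field_simp

theorem exists_mulChar_parity (hodd : Odd (Fintype.card F)) {x : ℂ} (hx : x * x = 1) :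
    ∃ α : MulChar F ℂ, α (-1 : F) = x := by
  rcases mul_self_eq_one_iff.mp hx with rfl | rfl
  · exact ⟨1, by rw [MulChar.one_apply (isUnit_one.neg)]⟩
  · haveI : Finite F := Finite.of_fintype F
    obtain ⟨γ, hγ⟩ := MulChar.exists_apply_ne_one_of_hasEnoughRootsOfUnity F ℂ (a := (-1 : F))
      (fun h => two_ne_zero_of_odd hodd (by linear_combination -h))
    exact ⟨γ, (mul_self_eq_one_iff.mp (apply_neg_one_sq γ)).resolve_left hγ⟩

theorem isIrr_phi (H : IsTorus T) {α : MulChar F ℂ} (θ : T →* ℂˣ) (hα : α (-1 : F) = eps H θ)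
    (hθ : ¬ ∀ t : T, θ t ^ 2 = 1) : IsIrrCharacter SL2 (phi T α θ) := by
  obtain ⟨χ, e | e⟩ := IsGeneralizedCharacter.eq_pm_irr (isGen_phi α θ) (by rw [norm_phi H θ hα, if_neg hθ])
  · rw [e]; exact χ.2
  · exfalso
    obtain ⟨d, hd0, hd⟩ := IsIrrCharacter.exists_apply_one χ.2
    have h := congrFun e 1
    rw [phi_one H, Pi.neg_apply, hd] at h
    have h1 : ((Fintype.card F + d : ℕ) : ℂ) = ((1 : ℕ) : ℂ) := by push_cast; linear_combination h
    have := Nat.cast_injective h1
    have := Fintype.one_lt_card (α := F)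
    omega

/-- `St - 1` is the member of the family at the trivial character. -/
theorem phi_trivial (H : IsTorus T) : phi T (1 : MulChar F ℂ) 1 = steinSL F - trivSL F := by
  have hΦ := IsGeneralizedCharacter.isClassFunction (isGen_phi (T := T) (1 : MulChar F ℂ) 1)
  have hS : IsClassFunction SL2 (steinSL F - trivSL F) :=
    IsClassFunction.sub (IsCharacter.isClassFunction (IsIrrCharacter.isCharacter isIrr_steinSL))
      (IsCharacter.isClassFunction (IsIrrCharacter.isCharacter isIrr_trivSL))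
  funext g
  by_cases hs : IsSplit g
  · obtain ⟨a, c, hgc⟩ := isConj_bSL_of_isSplit hs
    rw [IsClassFunction.eq_of_isConj hΦ hgc, IsClassFunction.eq_of_isConj hS hgc]
    have h1 : (1 : MulChar F ℂ) (a : F) = 1 := MulChar.one_apply_coe a
    by_cases ha : a = a⁻¹
    · by_cases hc : c = 0
      · subst hc
        have hcz : bSL a (0 : F) ∈ Subgroup.center SL2 := by
          rcases eq_inv_iff_sign.mp ha with rfl | rfl
          · rw [bSL_one, uni_zero]; exact one_mem _
          · rw [bSL_negOne_zero]; exact mem_center_iff'.mpr (Or.inr rfl)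
        rw [phi, Pi.sub_apply, Pi.sub_apply, indT_central H _ hcz, qChar_sign _ ha, if_pos rfl, steinSL,
          trivSL, Pi.sub_apply, indSL_sign _ ha, if_pos rfl, h1, MonoidHom.one_apply, Units.val_one]
        simp only [trivSL]
        ring
      · rw [phi_bSL H _ _ (Or.inr hc), if_pos ha, Pi.sub_apply, steinSL, trivSL, Pi.sub_apply, indSL_sign _ ha,
          if_neg hc, h1]
        simp only [trivSL]
        ring
    · have hz := qChar_diag (1 : MulChar F ℂ) ha c
      rw [phi_bSL H _ _ (Or.inl ha), if_neg ha]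
      have hcl1 := IsCharacter.isClassFunction (IsIrrCharacter.isCharacter (isIrr_steinSL (F := F)))
      have h2 : ((a⁻¹ : Fˣ) : F) ^ 2 ≠ 1 := fun h => ha (by
        have h3 : a⁻¹ ^ 2 = 1 := Units.ext (by rw [Units.val_pow_eq_pow_val, h, Units.val_one])
        rw [inv_pow, inv_eq_one, sq] at h3
        exact mul_eq_one_iff_eq_inv.mp h3)
      rw [Pi.sub_apply, IsClassFunction.eq_of_isConj hcl1 (isConj_bSL_inv a ha c),
        steinSL_diag (by simp [bSL_coe]) (by simp [bSL_coe]) (by simpa [bSL_coe] using h2)]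
      simp [trivSL]
  · have hne := noEigen_of_not_isSplit hs
    obtain ⟨h, hm, hmZ⟩ := H.exists_conj_mem hne
    have hgc : IsConj g (h * g * h⁻¹) := isConj_iff.mpr ⟨h, rfl⟩
    rw [Pi.sub_apply, steinSL_noEigen hne, IsClassFunction.eq_of_isConj hΦ hgc]
    rw [show h * g * h⁻¹ = ((⟨h * g * h⁻¹, hm⟩ : T) : SL2) from rfl, phi_regular H _ _ _ hmZ]
    simp [trivSL]
    norm_num

end Cfsg.Agent.Lib.OddChar.SL2
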