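import Cfsg.Agent.Lib.OddChar.SL2.Family
import Cfsg.Agent.Lib.Characters.Kernel
import Cfsg.Prelude.Def_DegreeGraph

/-! The character degrees of `SL₂(q)` and `PSL₂(q)`. -/

set_option autoImplicit false
set_option maxHeartbeats 800000

namespace Cfsg.Agent.Lib.OddChar.SL2

open scoped ComplexConjugate
open Matrix Cfsg Cfsg.Agent.Lib.Characters Cfsg.Agent.Lib.KnownA

variable {F : Type*} [Field F] [Fintype F] [DecidableEq F]

local notation "SL2" => Matrix.SpecialLinearGroup (Fin 2) F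
local notation "PSL2" => Matrix.ProjectiveSpecialLinearGroup (Fin 2) F

theorem charDegree_natCast {G : Type*} [Group G] {χ : G → ℂ} {d : ℕ} (h : χ 1 = (d : ℂ)) :
    Cfsg.charDegree χ = d := by simp [Cfsg.charDegree, h]

theorem degree_cases {χ : SL2 → ℂ} (hχ : IsIrrCharacter SL2 χ) :
    ∃ d : ℕ, χ 1 = (d : ℂ) ∧ (d = 1 ∨ d = Fintype.card F ∨ d = Fintype.card F + 1 ∨ d = Fintype.card F - 1 ∨
      (Odd (Fintype.card F) ∧ (2 * d = Fintype.card F + 1 ∨ 2 * d = Fintype.card F - 1))) := by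
  rcases kinds_all hχ with ⟨-, ⟨-, e⟩ | ⟨-, e⟩ | ⟨-, e⟩ | ⟨ho, e⟩⟩ | ⟨-, ⟨ho, e⟩ | e⟩
  · exact ⟨_, e, Or.inl rfl⟩
  · exact ⟨_, e, Or.inr (Or.inl rfl)⟩
  · exact ⟨_, e, Or.inr (Or.inr (Or.inl rfl))⟩
  · have := Nat.odd_iff.mp ho
    exact ⟨_, e, Or.inr (Or.inr (Or.inr (Or.inr ⟨ho, Or.inl (by omega)⟩)))⟩
  · have := Nat.odd_iff.mp ho
    exact ⟨_, e, Or.inr (Or.inr (Or.inr (Or.inr ⟨ho, Or.inr (by omega)⟩)))⟩
  · exact ⟨_, e, Or.inr (Or.inr (Or.inr (Or.inl rfl)))⟩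

omit [DecidableEq F] in
theorem negOne_of_two [CharP F 2] : (negOne F : SL2) = 1 := by
  apply Subtype.ext
  rw [negOne_coe, Matrix.SpecialLinearGroup.coe_one]
  ext i j
  fin_cases i <;> fin_cases j <;> simp [CharTwo.neg_eq]

/-- A character of `SL₂` with trivial central character gives one of `PSL₂`. -/
theorem exists_psl {χ : SL2 → ℂ} (hχ : IsIrrCharacter SL2 χ) (hz : χ (negOne F) = χ 1) :
    ∃ ψ : IrrCharacter PSL2, χ = (ψ : PSL2 → ℂ) ∘ QuotientGroup.mk' (Subgroup.center SL2) := by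
  obtain ⟨ψ, hψ, e⟩ := IsIrrCharacter.exists_quotient hχ (Subgroup.center SL2) (fun z hzc => by
    rcases mem_center_iff'.mp hzc with rfl | rfl
    · rfl
    · exact hz)
  exact ⟨⟨ψ, hψ⟩, e⟩

theorem inflate (ψ : IrrCharacter PSL2) :
    IsIrrCharacter SL2 ((ψ : PSL2 → ℂ) ∘ QuotientGroup.mk' (Subgroup.center SL2)) ∧
      ((ψ : PSL2 → ℂ) ∘ QuotientGroup.mk' (Subgroup.center SL2)) 1 = (ψ : PSL2 → ℂ) 1 :=
  ⟨IsIrrCharacter.comp_surjective ψ.2 _ (QuotientGroup.mk'_surjective _), by simp⟩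

theorem steinSL_negOne : steinSL F (negOne F) = steinSL F 1 := by
  rw [← bSL_negOne_zero, steinSL, Pi.sub_apply, Pi.sub_apply, indSL_sign _ (by simp), if_pos rfl,
    MulChar.one_apply_coe, indSL_one]
  simp [trivSL]

theorem indSL_negOne (α : MulChar F ℂ) : indSL α (negOne F) = ((Fintype.card F : ℂ) + 1) * α (-1 : F) := by
  rw [← bSL_negOne_zero, indSL_sign _ (by simp), if_pos rfl, Units.val_neg, Units.val_one]

theorem exists_mulChar_even_regular (h5 : 5 < Fintype.card F) :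
    ∃ α : MulChar F ℂ, α ^ 2 ≠ 1 ∧ α (-1 : F) = 1 := by
  have hn : Fintype.card F - 1 ≠ 0 := by omega
  obtain ⟨γ, hγ⟩ := MulChar.exists_mulChar_orderOf F (n := Fintype.card F - 1) dvd_rfl
    (Complex.isPrimitiveRoot_exp _ hn)
  refine ⟨γ ^ 2, fun h => ?_, ?_⟩
  · rw [← pow_mul] at h
    have := Nat.le_of_dvd (by norm_num) (hγ ▸ orderOf_dvd_of_pow_eq_one h)
    omega
  · rw [MulChar.pow_apply' _ two_ne_zero, sq, apply_neg_one_sq]

/-- The three large degrees occur for characters with trivial central character. -/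
theorem exists_big_degrees (h4 : 4 ≤ Fintype.card F) (h5 : Fintype.card F ≠ 5) :
    ∀ d, d = Fintype.card F ∨ d = Fintype.card F + 1 ∨ d = Fintype.card F - 1 →
      ∃ χ : SL2 → ℂ, IsIrrCharacter SL2 χ ∧ χ 1 = (d : ℂ) ∧ χ (negOne F) = χ 1 := by
  have hq1 : ((Fintype.card F - 1 : ℕ) : ℂ) = (Fintype.card F : ℂ) - 1 := by
    rw [Nat.cast_sub Fintype.card_pos, Nat.cast_one]
  rintro d (rfl | rfl | rfl)
  · exact ⟨steinSL F, isIrr_steinSL, steinSL_one, steinSL_negOne⟩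
  · by_cases hodd : Odd (Fintype.card F)
    · obtain ⟨α, hα, hα1⟩ := exists_mulChar_even_regular (F := F) (by have := Nat.odd_iff.mp hodd; omega)
      exact ⟨indSL α, (isIrr_indSL_iff α).mpr hα, by rw [indSL_one]; push_cast; rfl,
        by rw [indSL_negOne, hα1, mul_one, indSL_one]⟩
    · haveI := charP_two_of_not_odd hodd
      have hpos : 0 < Nat.card {α : MulChar F ℂ // α ^ 2 ≠ 1} := by rw [card_sq_ne_one_two]; omega
      obtain ⟨⟨α, hα⟩⟩ := (Nat.card_pos_iff.mp hpos).1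
      exact ⟨indSL α, (isIrr_indSL_iff α).mpr hα, by rw [indSL_one]; push_cast; rfl, by rw [negOne_of_two]⟩
  · by_cases hodd : Odd (Fintype.card F)
    · obtain ⟨T, H⟩ := exists_torus hodd
      obtain ⟨θ, hθn, hθ⟩ := H.exists_regular_even (by have := Nat.odd_iff.mp hodd; omega)
      have he : eps H θ = 1 := by rw [eps, hθn, Units.val_one]
      have hα : (1 : MulChar F ℂ) (-1 : F) = eps H θ := by rw [he, MulChar.one_apply isUnit_one.neg]
      exact ⟨_, isIrr_phi H θ hα hθ, by rw [phi_one H, hq1],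
        by rw [phi_negOne H θ hα, he, mul_one, phi_one H]⟩
    · haveI := charP_two_of_not_odd hodd
      obtain ⟨-, -, -, c⟩ := counts_two (F := F) h4
      have hpos : 0 < Nat.card {χ : IrrCharacter SL2 // χ.1 1 = (Fintype.card F : ℂ) - 1} := by rw [c]; omega
      obtain ⟨⟨χ, hχ⟩⟩ := (Nat.card_pos_iff.mp hpos).1
      exact ⟨χ.1, χ.2, by rw [hχ, hq1], by rw [negOne_of_two]⟩

/-- The degree set of a copy of `PSL₂(q)` or `SL₂(q)`. -/
theorem charDegrees_facts (h4 : 4 ≤ Fintype.card F) (h5 : Fintype.card F ≠ 5) {S : Type*} [Group S] [Finite S]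
    (hS : Nonempty (S ≃* PSL2) ∨ Nonempty (S ≃* SL2)) :
    (∀ d ∈ Cfsg.charDegrees S, d = 1 ∨ d = Fintype.card F ∨ d = Fintype.card F + 1 ∨ d = Fintype.card F - 1 ∨
      (Odd (Fintype.card F) ∧ (2 * d = Fintype.card F + 1 ∨ 2 * d = Fintype.card F - 1))) ∧
    Fintype.card F ∈ Cfsg.charDegrees S ∧ Fintype.card F + 1 ∈ Cfsg.charDegrees S ∧
      Fintype.card F - 1 ∈ Cfsg.charDegrees S := by
  rcases hS with ⟨⟨e⟩⟩ | ⟨⟨e⟩⟩
  · have key : ∀ d, (d = Fintype.card F ∨ d = Fintype.card F + 1 ∨ d = Fintype.card F - 1) →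
        d ∈ Cfsg.charDegrees S := fun d hd => by
      obtain ⟨χ, hχ, h1, hn⟩ := exists_big_degrees h4 h5 d hd
      obtain ⟨ψ, hψ⟩ := exists_psl hχ hn
      refine ⟨⟨(ψ : PSL2 → ℂ) ∘ e, IsIrrCharacter.comp_equiv ψ.2 e⟩, charDegree_natCast ?_⟩
      rw [← h1, hψ]; simp
    refine ⟨?_, key _ (Or.inl rfl), key _ (Or.inr (Or.inl rfl)), key _ (Or.inr (Or.inr rfl))⟩
    rintro d ⟨χ, rfl⟩
    let ψ : IrrCharacter PSL2 := ⟨(χ : S → ℂ) ∘ e.symm, IsIrrCharacter.comp_equiv χ.2 e.symm⟩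
    obtain ⟨hi, h1⟩ := inflate ψ
    obtain ⟨k, hk, hcases⟩ := degree_cases hi
    rw [h1] at hk
    rw [charDegree_natCast (d := k) (by rw [← hk]; simp [ψ])]
    exact hcases
  · have key : ∀ d, (d = Fintype.card F ∨ d = Fintype.card F + 1 ∨ d = Fintype.card F - 1) →
        d ∈ Cfsg.charDegrees S := fun d hd => by
      obtain ⟨χ, hχ, h1, -⟩ := exists_big_degrees h4 h5 d hd
      refine ⟨⟨χ ∘ e, IsIrrCharacter.comp_equiv hχ e⟩, charDegree_natCast ?_⟩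
      rw [← h1]; simp
    refine ⟨?_, key _ (Or.inl rfl), key _ (Or.inr (Or.inl rfl)), key _ (Or.inr (Or.inr rfl))⟩
    rintro d ⟨χ, rfl⟩
    obtain ⟨k, hk, hcases⟩ := degree_cases (IsIrrCharacter.comp_equiv χ.2 e.symm)
    rw [charDegree_natCast (d := k) (by rw [← hk]; simp)]
    exact hcases

theorem prime_dvd_cases {q d r : ℕ} (hr : r.Prime)
    (hd : d = 1 ∨ d = q ∨ d = q + 1 ∨ d = q - 1 ∨ (Odd q ∧ (2 * d = q + 1 ∨ 2 * d = q - 1))) (h : r ∣ d) :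
    r ∣ q ∨ r ∣ q + 1 ∨ r ∣ q - 1 := by
  rcases hd with rfl | rfl | rfl | rfl | ⟨-, e | e⟩
  · exact absurd (Nat.dvd_one.mp h) hr.ne_one
  · exact Or.inl h
  · exact Or.inr (Or.inl h)
  · exact Or.inr (Or.inr h)
  · exact Or.inr (Or.inl (e ▸ h.mul_left 2))
  · exact Or.inr (Or.inr (e ▸ h.mul_left 2))

theorem sq_sub_one (q : ℕ) : q ^ 2 - 1 = (q + 1) * (q - 1) := by
  rw [← Nat.sq_sub_sq, one_pow]

theorem degreePrimes_eq (h4 : 4 ≤ Fintype.card F) (h5 : Fintype.card F ≠ 5) {S : Type*} [Group S] [Finite S]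
    (hS : Nonempty (S ≃* PSL2) ∨ Nonempty (S ≃* SL2)) :
    Cfsg.degreePrimes S = {r : ℕ | r.Prime ∧ r ∣ Fintype.card F * (Fintype.card F ^ 2 - 1)} := by
  obtain ⟨hsub, h0, hp, hm⟩ := charDegrees_facts h4 h5 hS
  ext r
  simp only [Cfsg.degreePrimes, Set.mem_setOf_eq, sq_sub_one]
  refine and_congr_right fun hr => ⟨?_, fun h => ?_⟩
  · rintro ⟨d, hd, hrd⟩
    rcases prime_dvd_cases hr (hsub d hd) hrd with h | h | h
    · exact h.mul_right _
    · exact (h.mul_right _).mul_left _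
    · exact (h.mul_left _).mul_left _
  · rcases hr.dvd_mul.mp h with h | h
    · exact ⟨_, h0, h⟩
    rcases hr.dvd_mul.mp h with h | h
    · exact ⟨_, hp, h⟩
    · exact ⟨_, hm, h⟩

theorem degreeGraph_adj (h4 : 4 ≤ Fintype.card F) (h5 : Fintype.card F ≠ 5) {p : ℕ} (hp : p.Prime) [CharP F p]
    {S : Type*} [Group S] [Finite S] (hS : Nonempty (S ≃* PSL2) ∨ Nonempty (S ≃* SL2)) (r s : ℕ) :
    (Cfsg.degreeGraph S).Adj r s ↔ (r ≠ s ∧ r.Prime ∧ s.Prime ∧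
      ((r ∣ Fintype.card F + 1 ∧ s ∣ Fintype.card F + 1) ∨ (r ∣ Fintype.card F - 1 ∧ s ∣ Fintype.card F - 1))) := by
  obtain ⟨hsub, -, hpl, hm⟩ := charDegrees_facts h4 h5 hS
  refine and_congr_right fun hne => and_congr_right fun hr => and_congr_right fun hs => ?_
  have hco : Nat.Coprime r s := (Nat.coprime_primes hr hs).mpr hne
  constructor
  · rintro ⟨d, hd, hrs⟩
    have hrd : r ∣ d := (dvd_mul_right r s).trans hrs
    have hsd : s ∣ d := (dvd_mul_left s r).trans hrs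
    rcases hsub d hd with rfl | rfl | rfl | rfl | ⟨-, e | e⟩
    · exact absurd (Nat.dvd_one.mp hrd) hr.ne_one
    · exfalso
      obtain ⟨n, -, hn⟩ := FiniteField.card F p
      rw [hn] at hrd hsd
      exact hne (((Nat.prime_dvd_prime_iff_eq hr hp).mp (hr.dvd_of_dvd_pow hrd)).trans
        ((Nat.prime_dvd_prime_iff_eq hs hp).mp (hs.dvd_of_dvd_pow hsd)).symm)
    · exact Or.inl ⟨hrd, hsd⟩
    · exact Or.inr ⟨hrd, hsd⟩
    · exact Or.inl ⟨e ▸ hrd.mul_left 2, e ▸ hsd.mul_left 2⟩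
    · exact Or.inr ⟨e ▸ hrd.mul_left 2, e ▸ hsd.mul_left 2⟩
  · rintro (⟨h1, h2⟩ | ⟨h1, h2⟩)
    · exact ⟨_, hpl, hco.mul_dvd_of_dvd_of_dvd h1 h2⟩
    · exact ⟨_, hm, hco.mul_dvd_of_dvd_of_dvd h1 h2⟩

theorem csum_eq_filter_sum (χ : SL2 → ℂ) :
    (∑ g : SL2, if (g : Matrix (Fin 2) (Fin 2) F) 1 0 = 0 ∧ (g : Matrix (Fin 2) (Fin 2) F) 0 0 = 1 ∧
      (g : Matrix (Fin 2) (Fin 2) F) 1 1 = 1 then χ g else 0) = csumSL χ 1 := by
  rw [← Finset.sum_filter, csumSL]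
  symm
  refine Finset.sum_bij (fun c _ => bSL 1 c) (fun c _ => by simp [bSL_coe]) (fun a _ b _ h => ?_) (fun g hg => ?_)
    (fun c _ => rfl)
  · simpa [bSL_coe] using congrArg (fun k : SL2 => (k : Matrix (Fin 2) (Fin 2) F) 0 1) h
  · obtain ⟨h10, h00, h11⟩ := (Finset.mem_filter.mp hg).2
    refine ⟨(g : Matrix (Fin 2) (Fin 2) F) 0 1, Finset.mem_univ _, Subtype.ext ?_⟩
    change ((bSL 1 _ : SL2) : Matrix (Fin 2) (Fin 2) F) = _
    rw [bSL_coe]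
    ext i j
    fin_cases i <;> fin_cases j <;> simp [h10, h00, h11]

theorem half_csum (hodd : Odd (Fintype.card F)) {χ : SL2 → ℂ} (hχ : IsIrrCharacter SL2 χ) (hc : ¬ CuspSL χ)
    (hd : χ 1 = (((Fintype.card F + 1) / 2 : ℕ) : ℂ)) :
    ∃ η : MulChar F ℂ, η ^ 2 = 1 ∧ η ≠ 1 ∧ ∀ a : Fˣ, csumSL χ a = (Fintype.card F : ℂ) * η (a : F) := by
  obtain ⟨ν₀, hν₀⟩ := FiniteField.exists_nonsquare (ringChar_ne_two hodd)
  let ν : Fˣ := Units.mk0 ν₀ (fun h => hν₀ (h ▸ IsSquare.zero))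
  have hν : ¬ IsSquare (ν : F) := hν₀
  obtain ⟨η, hη, hη1⟩ := exists_quadratic hodd
  obtain ⟨H, hH, -, hHd, hH1, -, -, -⟩ := exists_halves hodd hη hη1 ν hν
  refine ⟨η, hη, hη1, fun a => ?_⟩
  have hη2 : η⁻¹ = η := by rw [inv_eq_iff_mul_eq_one, ← sq, hη]
  have hb : η ((a⁻¹ : Fˣ) : F) = η (a : F) := by
    conv_rhs => rw [← hη2, MulChar.inv_apply', ← Units.val_inv_eq_inv_val]
  have hsum : csumSL (indSL η) a = csumSL H a + csumSL (H ∘ sigma ν) a := by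
    rw [hHd]; simp [csumSL, Finset.sum_add_distrib]
  rw [csumSL_indSL, hb, csumSL_comp_sigma] at hsum
  have hmod := Nat.odd_iff.mp hodd
  have hq := Fintype.one_lt_card (α := F)
  rcases kinds_odd hodd ν hν hη hη1 hH hHd hH1 hχ with ⟨-, ⟨-, e⟩ | ⟨-, e⟩ | ⟨-, e⟩ | ⟨e, -⟩⟩ | ⟨h, -⟩
  iterate 3 (rw [hd, Nat.cast_inj] at e; omega)
  · rcases e with rfl | rfl
    · linear_combination -hsum / 2
    · rw [csumSL_comp_sigma]; linear_combination -hsum / 2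
  · exact absurd h hc

end Cfsg.Agent.Lib.OddChar.SL2
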