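import Cfsg.Agent.Lib.OddChar.SL2.Cusp

/-! Linear characters of the torus and the values of cuspidal characters on it. -/

set_option autoImplicit false
set_option maxHeartbeats 800000

namespace Cfsg.Agent.Lib.OddChar.SL2

open scoped ComplexConjugate
open Matrix Cfsg Cfsg.Agent.Lib.Characters Cfsg.Agent.Lib.KnownA
open Cfsg.Agent.Lib.Geometry.Dickson (cell cellNorm IsSplit)

variable {F : Type*} [Field F] [Fintype F]

local notation "SL2" => Matrix.SpecialLinearGroup (Fin 2) F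
local notation "qq" => ((Fintype.card F : ℕ) : ℂ)

theorem exists_torus (hodd : Odd (Fintype.card F)) :
    ∃ T : Subgroup (Matrix.SpecialLinearGroup (Fin 2) F), IsTorus T := by
  classical
  obtain ⟨y, hs, ht, hy⟩ := Cfsg.Agent.Lib.Geometry.Dickson.exists_nonsplit (F := F)
  exact ⟨cell ⊤ y, hodd, Cfsg.Agent.Lib.Geometry.Dickson.torus_isCyclic ⊤ hy ht,
    Cfsg.Agent.Lib.Geometry.Dickson.card_cell_nonsplit hy ht hs⟩

theorem isTorus_cell (hodd : Odd (Fintype.card F)) {g : SL2}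
    (hg : ∀ (c : F) (v : Fin 2 → F), v ≠ 0 → (g : Matrix (Fin 2) (Fin 2) F).mulVec v ≠ c • v) :
    IsTorus (cell ⊤ g) ∧ g ∈ cell ⊤ g ∧ g ∉ Subgroup.center SL2 := by
  classical
  obtain ⟨T, H⟩ := exists_torus hodd
  obtain ⟨h, hm, hmZ⟩ := H.exists_conj_mem hg
  obtain ⟨ht, hs, -⟩ := H.cell_facts hm hmZ
  have htr : Cfsg.Agent.Lib.SL2Trace.tr g = Cfsg.Agent.Lib.SL2Trace.tr (h * g * h⁻¹) :=
    Cfsg.Agent.Lib.SL2Trace.tr_eq_of_isConj (isConj_iff.mpr ⟨h, rfl⟩)
  have htg : Cfsg.Agent.Lib.SL2Trace.tr g ^ 2 ≠ 4 := htr ▸ ht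
  have hgZ := Cfsg.Agent.Lib.PSLSpec.notMem_center_of_tr htg
  exact ⟨⟨hodd, Cfsg.Agent.Lib.Geometry.Dickson.torus_isCyclic ⊤ hgZ htg,
    Cfsg.Agent.Lib.Geometry.Dickson.card_cell_nonsplit hgZ htg (not_isSplit_of_noEigen hg)⟩,
    Cfsg.Agent.Lib.Geometry.Dickson.mem_cell_self ⊤ (Subgroup.mem_top g), hgZ⟩

variable {T : Subgroup (Matrix.SpecialLinearGroup (Fin 2) F)}

theorem IsTorus.exists_hom_generator (H : IsTorus T) (c : T) (hc : ∀ x : T, x ∈ Subgroup.zpowers c)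
    (u : ℂˣ) (hu : u ^ (Fintype.card F + 1) = 1) : ∃ θ : T →* ℂˣ, θ c = u := by
  have ho : orderOf c = Fintype.card F + 1 := by rw [orderOf_eq_card_of_forall_mem_zpowers hc, H.card]
  exact ⟨monoidHomOfForallMemZpowers hc (g' := u) (by rw [ho]; exact orderOf_dvd_of_pow_eq_one hu),
    monoidHomOfForallMemZpowers_apply_gen hc _⟩

theorem IsTorus.exists_quadratic (H : IsTorus T) :
    ∃ θ : T →* ℂˣ, θ ≠ 1 ∧ (∀ t : T, θ t ^ 2 = 1) ∧
      (∀ μ : T →* ℂˣ, (∀ t : T, μ t ^ 2 = 1) → μ = 1 ∨ μ = θ) ∧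
      ∀ t : T, (θ t = 1 ↔ t ^ ((Fintype.card F + 1) / 2) = 1) ∧ (θ t = 1 ∨ θ t = -1) := by
  obtain ⟨c, hc, -⟩ := H.exists_generator
  have h2 : 2 ∣ Fintype.card F + 1 := by have := Nat.odd_iff.mp H.odd; omega
  obtain ⟨θ, hθ⟩ := H.exists_hom_generator c hc (-1) (by
    obtain ⟨k, hk⟩ := h2; rw [hk, pow_mul, neg_one_sq, one_pow])
  have ho : orderOf c = Fintype.card F + 1 := by rw [orderOf_eq_card_of_forall_mem_zpowers hc, H.card]
  have hsign : ∀ u : ℂˣ, u ^ 2 = 1 → u = 1 ∨ u = -1 := fun u hu => by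
    have h := congrArg Units.val hu
    simp only [Units.val_pow_eq_pow_val, Units.val_one] at h
    rcases sq_eq_one_iff.mp h with e | e
    · exact Or.inl (Units.ext e)
    · exact Or.inr (Units.ext (by simpa using e))
  have hsq : ∀ t : T, θ t ^ 2 = 1 := fun t => by
    obtain ⟨n, rfl⟩ := Subgroup.mem_zpowers_iff.mp (hc t)
    rw [map_zpow, hθ, ← zpow_natCast, ← _root_.zpow_mul, mul_comm, _root_.zpow_mul, zpow_natCast, neg_one_sq, _root_.one_zpow]
  have hne : (-1 : ℂˣ) ≠ 1 := fun e => by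
    have := congrArg Units.val e
    norm_num at this
  refine ⟨θ, fun e => hne (by rw [← hθ, e]; rfl), hsq, fun μ hμ => ?_, fun t => ⟨?_, hsign _ (hsq t)⟩⟩
  · have hext : ∀ ν : T →* ℂˣ, μ c = ν c → μ = ν := fun ν e => MonoidHom.ext fun t => by
      obtain ⟨n, rfl⟩ := Subgroup.mem_zpowers_iff.mp (hc t)
      rw [map_zpow, map_zpow, e]
    rcases hsign _ (hμ c) with e | e
    · exact Or.inl (hext 1 e)
    · exact Or.inr (hext θ (e.trans hθ.symm))
  · obtain ⟨n, rfl⟩ := (mem_powers_iff_mem_zpowers.mpr (hc t) : t ∈ Submonoid.powers c)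
    obtain ⟨k, hk⟩ := h2
    dsimp only
    rw [map_pow, hθ, ← pow_mul, ← orderOf_dvd_iff_pow_eq_one (x := c), ho, hk, Nat.mul_div_cancel_left _ two_pos]
    constructor
    · intro h
      rcases Nat.even_or_odd n with he | he
      · exact Nat.mul_dvd_mul_right (even_iff_two_dvd.mp he) k
      · exact absurd (he.neg_one_pow.symm.trans h) hne
    · intro h
      exact (even_iff_two_dvd.mpr (Nat.dvd_of_mul_dvd_mul_right (by omega) h)).neg_one_pow

/-- A character of the torus with trivial central value and square different from one. -/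
theorem IsTorus.exists_regular_even (H : IsTorus T) (h5 : 5 ≤ Fintype.card F) :
    ∃ θ : T →* ℂˣ, θ ⟨negOne F, H.negOne_mem⟩ = 1 ∧ ¬ ∀ t : T, θ t ^ 2 = 1 := by
  obtain ⟨c, hc, -⟩ := H.exists_generator
  have hz := Complex.isPrimitiveRoot_exp (Fintype.card F + 1) (by omega)
  have hu : IsPrimitiveRoot (hz.isUnit (show Fintype.card F + 1 ≠ 0 by omega)).unit (Fintype.card F + 1) := hz.isUnit_unit (show Fintype.card F + 1 ≠ 0 by omega)
  obtain ⟨θ, hθ⟩ := H.exists_hom_generator c hc _ hu.pow_eq_one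
  have hn : (θ ⟨negOne F, H.negOne_mem⟩) ^ 2 = 1 := by
    rw [← map_pow, show (⟨negOne F, H.negOne_mem⟩ : T) ^ 2 = 1 from Subtype.ext (by simpa [sq] using negOne_sq), map_one]
  refine ⟨θ ^ 2, by rw [MonoidHom.pow_apply]; exact hn, fun h => ?_⟩
  have h4 := h c
  rw [MonoidHom.pow_apply, ← pow_mul, hθ, hu.pow_eq_one_iff_dvd] at h4
  have := Nat.le_of_dvd (by norm_num) h4
  omega

variable [DecidableEq F]

theorem eq_const_mul_of_pairing (H : IsTorus T) [Fintype T] {θ₀ : T →* ℂˣ} (hθ₀ : ∀ t : T, θ₀ t ^ 2 = 1)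
    (f : T → ℂ) (h : ∀ μ : T →* ℂˣ, μ ≠ θ₀ → ∑ t, ((μ t : ℂˣ) : ℂ) * f t = 0) :
    ∃ k : ℂ, ∀ t, f t = k * ((θ₀ t : ℂˣ) : ℂ) := by
  classical
  haveI := Fintype.ofFinite (IrrCharacter T)
  have hcl : IsClassFunction T f := fun a b => by rw [H.comm b a, mul_inv_cancel_right]
  let ψ₀ : IrrCharacter T := ⟨fun t => ((θ₀ t : ℂˣ) : ℂ), isIrrCharacter_monoidHom ((Units.coeHom ℂ).comp θ₀)⟩
  refine ⟨classInner f (ψ₀ : T → ℂ), fun t => ?_⟩
  have h0 : ∀ χ : IrrCharacter T, χ ≠ ψ₀ → classInner f (χ : T → ℂ) = 0 := by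
    intro χ hχ
    obtain ⟨lam, hl⟩ := IsCharacter.exists_hom_of_apply_one (irr_isCharacter χ)
      (IsIrrCharacter.apply_one_of_comm H.comm χ.2)
    have hne : lam⁻¹ ≠ θ₀ := fun e => hχ (Subtype.ext (by
      rw [hl]
      funext s
      show ((lam s : ℂˣ) : ℂ) = ((θ₀ s : ℂˣ) : ℂ)
      rw [← e, MonoidHom.inv_apply]
      congr 1
      have := hθ₀ s
      rw [← e, MonoidHom.inv_apply, inv_pow, inv_eq_one, sq, mul_eq_one_iff_eq_inv] at this
      exact this))
    have hs := h _ hne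
    rw [classInner, hl]
    rw [show ∑ g : T, f g * conj ((lam g : ℂˣ) : ℂ) = 0 from ?_, mul_zero]
    rw [← hs]
    exact Finset.sum_congr rfl fun s _ => by rw [conj_theta, MonoidHom.inv_apply, map_inv, mul_comm]
  have he := congrFun (eq_sum_classInner hcl) t
  rw [Finset.sum_apply, Finset.sum_eq_single ψ₀ (fun χ _ hχ => by rw [Pi.smul_apply, h0 χ hχ, zero_smul])
    (by simp)] at he
  exact he

/-- Values on the torus of a cuspidal character orthogonal to the whole family except one member. -/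
theorem cusp_torus_values (H : IsTorus T) {χ : SL2 → ℂ} (hχ : IsIrrCharacter SL2 χ) (hc : CuspSL χ)
    {θ₀ : T →* ℂˣ} (h0 : ∀ t : T, θ₀ t ^ 2 = 1)
    (horth : ∀ (μ : T →* ℂˣ) (α : MulChar F ℂ), μ ≠ θ₀ → α (-1 : F) = eps H μ →
      classInner (phi T α μ) χ = 0) :
    χ (negOne F) = χ 1 * eps H θ₀ ∧
      ∀ t : T, (t : SL2) ∉ Subgroup.center SL2 →
        χ t = -(2 * χ 1 / (qq - 1)) * ((θ₀ t : ℂˣ) : ℂ) := by
  classical
  haveI := Fintype.ofFinite T
  have hcl := IsCharacter.isClassFunction (IsIrrCharacter.isCharacter hχ)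
  have hq : qq + 1 ≠ 0 := Nat.cast_add_one_ne_zero _
  have hq1 : qq - 1 ≠ 0 := by
    rw [sub_ne_zero, Nat.cast_ne_one]
    have := H.three_le
    omega
  obtain ⟨d, -, hd⟩ := IsIrrCharacter.exists_apply_one hχ
  have hd1 : conj (χ 1) = χ 1 := by rw [hd, map_natCast]
  let n : T := ⟨negOne F, H.negOne_mem⟩
  set k : ℂ := (qq + 1) / (qq - 1) with hk
  let f : T → ℂ := fun t => conj (χ t) - (if t = 1 then k * χ 1 else 0) - (if t = n then k * conj (χ (negOne F)) else 0)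
  obtain ⟨c, hcf⟩ := eq_const_mul_of_pairing H h0 f (fun μ hμ => by
    obtain ⟨α, hα⟩ := exists_mulChar_parity H.odd (eps_sq H μ)
    have h := horth μ α hμ hα
    rw [phi, classInner_sub_left, classInner_qChar_cusp H.odd α hcl hc, classInner_indT_left μ hcl, H.card,
      sub_eq_zero, hd1, hα] at h
    simp only [f, mul_sub, Finset.sum_sub_distrib, mul_ite, mul_zero, Finset.sum_ite_eq', Finset.mem_univ,
      if_true, map_one, Units.val_one]
    rw [Nat.cast_add, Nat.cast_one, eq_inv_mul_iff_mul_eq₀ hq] at h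
    rw [← h, show ((μ n : ℂˣ) : ℂ) = eps H μ from rfl, hk]
    field_simp
    ring)
  have hne : n ≠ 1 := fun e => negOne_ne_one H.two_ne (congrArg Subtype.val e)
  have f1 := hcf 1
  simp only [f, if_true, if_neg hne.symm, sub_zero, map_one, Units.val_one, mul_one, OneMemClass.coe_one, hd1] at f1
  have hcval : c = -(2 * χ 1 / (qq - 1)) := by
    rw [← f1, hk]; field_simp; ring
  have hth : ∀ t : T, conj ((θ₀ t : ℂˣ) : ℂ) = ((θ₀ t : ℂˣ) : ℂ) := fun t => conj_sign (by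
    rw [← Units.val_mul, ← sq, h0 t, Units.val_one])
  have hcc : conj c = c := by
    rw [hcval]; simp [hd1, map_ofNat]
  constructor
  · have fn := hcf n
    simp only [f, if_neg hne, if_true, sub_zero] at fn
    rw [show ((θ₀ n : ℂˣ) : ℂ) = eps H θ₀ from rfl, show ((n : T) : SL2) = negOne F from rfl] at fn
    have e : conj (χ (negOne F)) = χ 1 * eps H θ₀ := by
      rw [hcval, hk] at fn
      field_simp at fn
      linear_combination (-1 / 2 : ℂ) * fn
    have := congrArg conj e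
    rwa [Complex.conj_conj, map_mul, hd1, show conj (eps H θ₀) = eps H θ₀ from hth n] at this
  · intro t ht
    have ft := hcf t
    have t1 : t ≠ 1 := fun e => ht (e ▸ one_mem _)
    have tn : t ≠ n := fun e => ht (e ▸ mem_center_iff'.mpr (Or.inr rfl))
    simp only [f, if_neg t1, if_neg tn, sub_zero] at ft
    have := congrArg conj ft
    rw [Complex.conj_conj, map_mul, hth, hcc, hcval] at this
    exact this

theorem phi_orth (H : IsTorus T) {χ : SL2 → ℂ} (hχ : IsIrrCharacter SL2 χ) (hc : CuspSL χ)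
    {θ₀ : T →* ℂˣ} (h0 : ∀ μ : T →* ℂˣ, (∀ t : T, μ t ^ 2 = 1) → μ = 1 ∨ μ = θ₀)
    (hne : ∀ (μ : T →* ℂˣ) (α : MulChar F ℂ), α (-1 : F) = eps H μ → (¬ ∀ t : T, μ t ^ 2 = 1) →
      phi T α μ ≠ χ)
    (μ : T →* ℂˣ) (α : MulChar F ℂ) (hμ : μ ≠ θ₀) (hα : α (-1 : F) = eps H μ) :
    classInner (phi T α μ) χ = 0 := by
  by_cases hsq : ∀ t : T, μ t ^ 2 = 1
  · obtain rfl := (h0 μ hsq).resolve_right hμ
    have e : phi T α (1 : T →* ℂˣ) = phi T (1 : MulChar F ℂ) 1 := by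
      have hα1 : α (-1 : F) = (1 : MulChar F ℂ) (-1 : F) := by
        rw [hα, MulChar.one_apply isUnit_one.neg]; rfl
      funext g
      simp only [phi, Pi.sub_apply, sub_left_inj]
      have hQ := IsGeneralizedCharacter.isClassFunction (isGen_qChar (F := F) α)
      have hQ1 := IsGeneralizedCharacter.isClassFunction (isGen_qChar (F := F) (1 : MulChar F ℂ))
      by_cases hs : IsSplit g
      · obtain ⟨a, c, hgc⟩ := isConj_bSL_of_isSplit hs
        rw [IsClassFunction.eq_of_isConj hQ hgc, IsClassFunction.eq_of_isConj hQ1 hgc]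
        by_cases ha : a = a⁻¹
        · rw [qChar_sign _ ha, qChar_sign _ ha]
          rcases eq_inv_iff_sign.mp ha with rfl | rfl
          · simp
          · simp [hα1]
        · rw [qChar_diag _ ha, qChar_diag _ ha]
      · rw [qChar_noEigen _ (noEigen_of_not_isSplit hs), qChar_noEigen _ (noEigen_of_not_isSplit hs)]
    rw [e, phi_trivial H, classInner_sub_left,
      IsIrrCharacter.classInner_ne isIrr_steinSL hχ (fun h => stein_not_cusp (h ▸ hc)),
      IsIrrCharacter.classInner_ne isIrr_trivSL hχ (fun h => triv_not_cusp (h ▸ hc)), sub_zero]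
  · exact IsIrrCharacter.classInner_ne (isIrr_phi H μ hα hsq) hχ (hne μ α hα hsq)

theorem cusp_of_degree (hodd : Odd (Fintype.card F)) {χ : SL2 → ℂ} (hχ : IsIrrCharacter SL2 χ)
    {d : ℕ} (hd : χ 1 = (d : ℂ))
    (h : (d = Fintype.card F - 1 ∨ d = (Fintype.card F - 1) / 2) ∧ 5 ≤ Fintype.card F) : CuspSL χ := by
  have hmod := Nat.odd_iff.mp hodd
  rcases kinds_all hχ with ⟨-, hh⟩ | ⟨hc, -⟩
  · exfalso
    rcases hh with ⟨-, e⟩ | ⟨-, e⟩ | ⟨-, e⟩ | ⟨-, e⟩ <;> rw [hd, Nat.cast_inj] at e <;> omega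
  · exact hc

theorem half_cusp_value (H : IsTorus T) (h5 : 5 ≤ Fintype.card F) {χ : SL2 → ℂ}
    (hχ : IsIrrCharacter SL2 χ) (hd : χ 1 = (((Fintype.card F - 1) / 2 : ℕ) : ℂ))
    {θ₀ : T →* ℂˣ} (h0 : ∀ t : T, θ₀ t ^ 2 = 1)
    (hu : ∀ μ : T →* ℂˣ, (∀ t : T, μ t ^ 2 = 1) → μ = 1 ∨ μ = θ₀) :
    ∀ t : T, (t : SL2) ∉ Subgroup.center SL2 → χ t = -((θ₀ t : ℂˣ) : ℂ) := by
  have hc := cusp_of_degree H.odd hχ hd ⟨Or.inr rfl, h5⟩
  have hmod := Nat.odd_iff.mp H.odd
  obtain ⟨k, hk⟩ : ∃ k, Fintype.card F = 2 * k + 1 := ⟨(Fintype.card F - 1) / 2, by omega⟩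
  rw [show (Fintype.card F - 1) / 2 = k by omega] at hd
  have hv := (cusp_torus_values H hχ hc h0 (phi_orth H hχ hc hu (fun μ α hα _ e => by
    have h1 := phi_one H α μ
    rw [e, hd, hk] at h1
    push_cast at h1
    have h2 : ((k : ℕ) : ℂ) = ((0 : ℕ) : ℂ) := by push_cast; linear_combination -h1
    have := Nat.cast_injective h2
    omega))).2
  intro t ht
  rw [hv t ht, hd, hk]
  have hk0 : (k : ℂ) ≠ 0 := Nat.cast_ne_zero.mpr (by omega)
  push_cast
  field_simp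
  ring

/-- Every cuspidal character of degree `q - 1` is one of the `phi T α θ`. -/
theorem exists_phi_eq (H : IsTorus T) (h5 : 5 ≤ Fintype.card F) {χ : SL2 → ℂ}
    (hχ : IsIrrCharacter SL2 χ) (hd : χ 1 = qq - 1) :
    ∃ (θ : T →* ℂˣ) (α : MulChar F ℂ), α (-1 : F) = eps H θ ∧ (¬ ∀ t : T, θ t ^ 2 = 1) ∧ phi T α θ = χ := by
  classical
  haveI := Fintype.ofFinite T
  by_contra hcon
  push Not at hcon
  have hd' : χ 1 = ((Fintype.card F - 1 : ℕ) : ℂ) := by
    rw [hd, Nat.cast_sub Fintype.card_pos, Nat.cast_one]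
  have hc := cusp_of_degree H.odd hχ hd' ⟨Or.inl rfl, h5⟩
  obtain ⟨θ₀, hne1, h0, hu, -⟩ := H.exists_quadratic
  obtain ⟨α, hα⟩ := exists_mulChar_parity H.odd (eps_sq H θ₀)
  obtain ⟨hn, hv⟩ := cusp_torus_values H hχ hc h0 (phi_orth H hχ hc hu (fun μ β hβ hsq => by
    intro e
    obtain ⟨x, hx⟩ := not_forall.mp hsq
    exact hx (hcon μ β hβ ⟨x, hx⟩ e |>.elim)))
  have hq : qq + 1 ≠ 0 := Nat.cast_add_one_ne_zero _
  have hq1 : qq - 1 ≠ 0 := by
    rw [sub_ne_zero, Nat.cast_ne_one]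
    omega
  have hcl := IsCharacter.isClassFunction (IsIrrCharacter.isCharacter hχ)
  have hd1 : conj (χ 1) = χ 1 := by rw [hd', map_natCast]
  have hI : classInner (indT T θ₀) χ = 0 := by
    rw [classInner_indT_left θ₀ hcl, sum_torus_ite H (fun _ => -2)]
    · have e := eps_sq H θ₀
      simp only [OneMemClass.coe_one, map_one, Units.val_one, one_mul, hn, map_mul, hd1, conj_sign e,
        Finset.sum_const, Finset.card_univ, nsmul_eq_mul, ← Nat.card_eq_fintype_card (α := T), H.card]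
      rw [show ((θ₀ ⟨negOne F, H.negOne_mem⟩ : ℂˣ) : ℂ) = eps H θ₀ from rfl, hd]
      rw [show eps H θ₀ * ((qq - 1) * eps H θ₀) = qq - 1 by linear_combination (qq - 1) * e]
      push_cast
      field_simp
      ring
    · intro t ht
      have e : ((θ₀ t : ℂˣ) : ℂ) * ((θ₀ t : ℂˣ) : ℂ) = 1 := by rw [← Units.val_mul, ← sq, h0 t, Units.val_one]
      rw [hv t ht, map_mul, conj_sign e, hd]
      have : -(2 * (qq - 1) / (qq - 1)) = -2 := by field_simp
      rw [this]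
      simp [map_ofNat]
      linear_combination (2 : ℂ) * e
  have hIP : classInner (phi T α θ₀) χ = 2 := by
    rw [phi, classInner_sub_left, hI, classInner_qChar_cusp H.odd α hcl hc, hn, hα, map_mul, hd1,
      conj_sign (eps_sq H θ₀), hd, sub_zero]
    field_simp
    linear_combination eps_sq H θ₀
  have hN : classInner (phi T α θ₀) (phi T α θ₀) = 2 := by rw [norm_phi H θ₀ hα, if_pos h0]
  have hpos := classInner_self_re_nonneg (phi T α θ₀ - (2 : ℂ) • χ)
  rw [classInner_sub_left, classInner_sub_right, classInner_sub_right, classInner_smul_left, classInner_smul_left,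
    classInner_smul_right, classInner_smul_right, IsIrrCharacter.classInner_self hχ, hN, hIP,
    ← classInner_conj_symm, hIP] at hpos
  norm_num at hpos

end Cfsg.Agent.Lib.OddChar.SL2
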