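import Cfsg.Agent.Lib.OddChar.SL2.Degrees
import Cfsg.Agent.Lib.Characters.Ito
import Cfsg.Agent.Lib.Characters.QuaternionSylow
import Cfsg.Agent.S2431
import Cfsg.Agent.S2437

/-! Characters of degree prime to `ℓ` of `SL₂(q)` and of the normalisers of its Sylow subgroups. -/

set_option autoImplicit false

namespace Cfsg.Agent.Lib.OddChar.SL2

open Matrix Cfsg Cfsg.Agent.Lib.Characters Cfsg.Agent.Lib.KnownA
open Cfsg.Agent.Lib.Geometry.Dickson (cell cellNorm)
open Cfsg.Agent.Lib.SL2Trace (tr)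
open scoped commutatorElement

section group

universe u v

/-- The number of irreducible characters of degree prime to `ℓ`. -/
noncomputable def primeDegCount (ℓ : ℕ) (H : Type u) [Group H] : ℕ :=
  Nat.card {ψ : IrrCharacter H // ¬ ℓ ∣ Cfsg.charDegree (ψ : H → ℂ)}

theorem primeDegCount_congr (ℓ : ℕ) {H : Type u} {K : Type v} [Group H] [Group K] (e : H ≃* K) :
    primeDegCount ℓ H = primeDegCount ℓ K := by
  have hdeg : ∀ (ψ : IrrCharacter H), Cfsg.charDegree ((ψ : H → ℂ) ∘ e.symm) = Cfsg.charDegree (ψ : H → ℂ) :=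
    fun ψ => by simp [Cfsg.charDegree]
  let f : IrrCharacter H ≃ IrrCharacter K :=
    { toFun := fun ψ => ⟨(ψ : H → ℂ) ∘ e.symm, IsIrrCharacter.comp_equiv ψ.2 e.symm⟩
      invFun := fun φ => ⟨(φ : K → ℂ) ∘ e, IsIrrCharacter.comp_equiv φ.2 e⟩
      left_inv := fun ψ => Subtype.ext (funext fun x => by simp)
      right_inv := fun φ => Subtype.ext (funext fun x => by simp) }
  exact Nat.card_congr (f.subtypeEquiv fun ψ => by show _ ↔ ¬ ℓ ∣ Cfsg.charDegree ((ψ : H → ℂ) ∘ e.symm); rw [hdeg])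

theorem primeDegCount_abelian_normal {H : Type u} [Group H] [Finite H] (ℓ : ℕ) (A : Subgroup H) [A.Normal]
    (hA : ∀ a ∈ A, ∀ b ∈ A, a * b = b * a) (h : ∀ d, d ∣ A.index → ¬ ℓ ∣ d) :
    primeDegCount ℓ H = Nat.card (ConjClasses H) := by
  rw [← card_irrCharacter, primeDegCount]
  refine Nat.card_congr (Equiv.subtypeUnivEquiv fun ψ => ?_)
  obtain ⟨d, -, hd⟩ := IsIrrCharacter.exists_apply_one ψ.2
  rw [charDegree_natCast hd]
  exact h d (IsIrrCharacter.degree_dvd_index_of_abelian ψ.2 A hA hd)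

theorem primeDegCount_two_group {H : Type u} [Group H] [Finite H] (hH : IsPGroup 2 H) :
    primeDegCount 2 H = (commutator H).index := by
  rw [← card_linear_irr]
  refine Nat.card_congr (Equiv.subtypeEquivRight fun ψ => ?_)
  obtain ⟨d, -, hd, hdvd⟩ := IsIrrCharacter.exists_degree_dvd ψ.2
  rw [charDegree_natCast hd, hd, Nat.cast_eq_one]
  obtain ⟨n, hn⟩ := IsPGroup.iff_card.mp hH
  obtain ⟨j, -, rfl⟩ := (Nat.dvd_prime_pow Nat.prime_two).mp (hn ▸ hdvd)
  constructor
  · intro h
    rcases Nat.eq_zero_or_pos j with rfl | hj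
    · rfl
    · exact absurd (dvd_pow_self 2 hj.ne') h
  · intro h; rw [h]; decide

/-- Central commutators of a normal subgroup lie in the kernel of odd degree characters of a group of order 24. -/
theorem primeDegCount_twentyfour {H : Type u} [Group H] [Finite H] (hcard : Nat.card H = 24)
    (S : Subgroup H) [S.Normal] (hS : Nat.card S = 8) (z : H) (hz : z ∈ Subgroup.center H) (hz2 : z * z = 1)
    (hz1 : z ≠ 1) (hzc : ∃ a ∈ S, ∃ b ∈ S, ⁅a, b⁆ = z)
    (hSab : ∀ a ∈ S, ∀ b ∈ S, ⁅a, b⁆ ∈ Subgroup.zpowers z)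
    (hC : ∀ g : H, orderOf g = 3 → ∃ s ∈ S, g * s ≠ s * g) :
    primeDegCount 2 H = 4 := by
  classical
  haveI := Fintype.ofFinite H
  set Z := Subgroup.zpowers z with hZdef
  have hZn : Z.Normal := ⟨fun n hn g => by
    have hc : n ∈ Subgroup.center H := (Subgroup.zpowers_le.mpr hz) hn
    rw [Subgroup.mem_center_iff.mp hc g, mul_inv_cancel_right]
    exact hn⟩
  have hZ2 : ∀ n ∈ Z, n = 1 ∨ n = z := fun n hn => by
    obtain ⟨i, rfl⟩ := Subgroup.mem_zpowers_iff.mp hn
    rcases Int.even_or_odd i with ⟨k, rfl⟩ | ⟨k, rfl⟩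
    · left; rw [← two_mul, _root_.zpow_mul, zpow_two, hz2, _root_.one_zpow]
    · right; rw [_root_.zpow_add, _root_.zpow_mul, zpow_two, hz2, _root_.one_zpow, one_mul, zpow_one]
  have hZcard : Nat.card Z = 2 := by
    rw [hZdef, Nat.card_zpowers]
    exact orderOf_eq_prime (by rw [sq]; exact hz2) hz1
  have hQ : Nat.card (H ⧸ Z) = 12 := by
    have h := Subgroup.card_eq_card_quotient_mul_card_subgroup Z
    rw [hcard, hZcard] at h
    omega
  -- odd degree characters are trivial on `z`
  have htriv : ∀ ψ : IrrCharacter H, Odd (Cfsg.charDegree (ψ : H → ℂ)) → ∀ n ∈ Z, (ψ : H → ℂ) n = (ψ : H → ℂ) 1 := by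
    intro ψ hodd n hn
    rcases hZ2 n hn with rfl | rfl
    · rfl
    obtain ⟨m, ρ, hρ, e⟩ := ψ.2
    obtain ⟨w, hw⟩ := apply_central_mul ψ.2 (fun g => (Subgroup.mem_center_iff.mp hz g).symm)
    obtain ⟨d, hd0, hd⟩ := IsIrrCharacter.exists_apply_one ψ.2
    have h1 := hw 1
    rw [mul_one] at h1
    have hww : w * w = 1 := by
      have h := hw n
      rw [hz2, h1, ← mul_assoc] at h
      exact (mul_right_cancel₀ (IsIrrCharacter.apply_one_ne_zero ψ.2) (h.symm.trans (one_mul _).symm))
    rcases mul_self_eq_one_iff.mp hww with rfl | rfl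
    · rw [h1, one_mul]
    exfalso
    -- determinant
    rw [charDegree_natCast hd] at hodd
    have hm : m = d := by
      have := congrFun e 1
      rw [hd, ρ.char_one, Module.finrank_fin_fun] at this
      exact_mod_cast this
    obtain ⟨a, -, b, -, hab⟩ := hzc
    let D : H →* ℂ := LinearMap.det.comp ρ
    have hD : D n = 1 := by
      have hu : ∀ x y : H, D ⁅x, y⁆ = 1 := fun x y => by
        rw [commutatorElement_def, map_mul, map_mul, map_mul, mul_comm (D x), mul_assoc (D y), ← map_mul,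
          mul_inv_cancel, map_one, mul_one, ← map_mul, mul_inv_cancel, map_one]
      rw [← hab]; exact hu a b
    have hscal : ρ n = (-1 : ℂ) • (1 : Module.End ℂ (Fin m → ℂ)) := by
      have he := hw 1
      rw [mul_one, ← e] at he
      have h2 : ρ n * ρ n = 1 := by rw [← map_mul, hz2, map_one]
      have h3 : (ρ n + 1) * (ρ n + 1) = (2 : ℂ) • (ρ n + 1) := by
        simp only [add_mul, mul_add, h2, one_mul, mul_one, two_smul]; abel
      set P : Module.End ℂ (Fin m → ℂ) := (2⁻¹ : ℂ) • (ρ n + 1) with hP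
      have hidem : P * P = P := by
        rw [hP, smul_mul_smul_comm, h3, smul_smul]
        norm_num
      have htr : LinearMap.trace ℂ _ P = 0 := by
        rw [hP, map_smul, map_add, LinearMap.trace_one]
        change (2⁻¹ : ℂ) • (ρ.character n + _) = 0
        rw [he, ρ.char_one]
        simp
      have hproj : LinearMap.IsProj (LinearMap.range P) P :=
        ⟨fun x => LinearMap.mem_range_self _ x, fun x hx => by
          obtain ⟨y, rfl⟩ := hx
          exact LinearMap.congr_fun hidem y⟩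
      rw [hproj.trace, Nat.cast_eq_zero, Submodule.finrank_eq_zero, LinearMap.range_eq_bot] at htr
      rw [hP, smul_eq_zero] at htr
      rw [eq_neg_of_add_eq_zero_left (htr.resolve_left (by norm_num))]
      exact (neg_one_smul ℂ (1 : Module.End ℂ (Fin m → ℂ))).symm
    have : D n = (-1 : ℂ) ^ m := by
      change LinearMap.det (ρ n) = _
      rw [hscal, LinearMap.det_smul, map_one, mul_one, Module.finrank_fin_fun]
    rw [hD, hm, hodd.neg_one_pow] at this
    norm_num at this
  have hbij : primeDegCount 2 H = primeDegCount 2 (H ⧸ Z) := by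
    rw [primeDegCount, primeDegCount]
    symm
    refine Nat.card_congr (Equiv.ofBijective (fun φ => ⟨⟨(φ.1 : H ⧸ Z → ℂ) ∘ QuotientGroup.mk' Z,
      IsIrrCharacter.comp_surjective φ.1.2 _ (QuotientGroup.mk'_surjective Z)⟩,
      by simpa [Cfsg.charDegree] using φ.2⟩) ⟨fun φ φ' h => ?_, fun ψ => ?_⟩)
    · refine Subtype.ext (Subtype.ext (funext fun x => ?_))
      obtain ⟨y, rfl⟩ := QuotientGroup.mk'_surjective Z x
      exact congrFun (congrArg (fun q : {ψ : IrrCharacter H // ¬ 2 ∣ Cfsg.charDegree (ψ : H → ℂ)} => (q.1 : H → ℂ)) h) y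
    · have hodd : Odd (Cfsg.charDegree (ψ.1 : H → ℂ)) := by
        rw [← Nat.not_even_iff_odd, even_iff_two_dvd]; exact ψ.2
      obtain ⟨φ, hφ, e⟩ := IsIrrCharacter.exists_quotient ψ.1.2 Z (htriv ψ.1 hodd)
      exact ⟨⟨⟨φ, hφ⟩, by have := ψ.2; rw [e] at this; simpa [Cfsg.charDegree] using this⟩, Subtype.ext (Subtype.ext e.symm)⟩
  rw [hbij]
  -- the quotient of order 12
  set π := QuotientGroup.mk' Z
  let V := S.map π
  haveI : V.Normal := Subgroup.Normal.map inferInstance π (QuotientGroup.mk'_surjective Z)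
  have hVi : V.index = 3 := by
    have hZS : Z ≤ S := by
      rw [hZdef, Subgroup.zpowers_le]
      obtain ⟨a, ha, b, hb, rfl⟩ := hzc
      exact mul_mem (mul_mem (mul_mem ha hb) (inv_mem ha)) (inv_mem hb)
    rw [Subgroup.index_map_eq _ (QuotientGroup.mk'_surjective Z) (by rwa [QuotientGroup.ker_mk'])]
    have := S.index_mul_card
    rw [hS, hcard] at this
    omega
  have hVab : ∀ a ∈ V, ∀ b ∈ V, a * b = b * a := by
    rintro _ ⟨a, ha, rfl⟩ _ ⟨b, hb, rfl⟩
    rw [← commutatorElement_eq_one_iff_mul_comm, ← map_commutatorElement]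
    exact (QuotientGroup.eq_one_iff _).mpr (hSab a ha b hb)
  have hnab : ¬ ∀ a b : H ⧸ Z, a * b = b * a := by
    intro hab
    obtain ⟨g, hg⟩ := exists_prime_orderOf_dvd_card' 3 (by rw [hcard]; norm_num : 3 ∣ Nat.card H)
    obtain ⟨s, hs, hne⟩ := hC g hg
    apply hne
    have hm : ⁅g, s⁆ ∈ Z := by
      rw [← QuotientGroup.eq_one_iff]
      change π ⁅g, s⁆ = 1
      rw [map_commutatorElement, commutatorElement_eq_one_iff_mul_comm]
      exact hab _ _
    have hc : ⁅g, s⁆ ∈ Subgroup.center H := (Subgroup.zpowers_le.mpr hz) hm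
    rcases hZ2 _ hm with e | e
    · exact commutatorElement_eq_one_iff_mul_comm.mp e
    exfalso
    have e1 : g * s * g⁻¹ = z * s := by
      rw [← e, commutatorElement_def]; group
    have hzc' := Subgroup.mem_center_iff.mp hz
    have e2 : g * (g * s * g⁻¹) * g⁻¹ = s := by
      rw [e1, show g * (z * s) * g⁻¹ = z * (g * s * g⁻¹) by rw [← mul_assoc g z, hzc' g]; group, e1, ← mul_assoc, hz2, one_mul]
    have e3 : g * (g * (g * s * g⁻¹) * g⁻¹) * g⁻¹ = s := by
      have h3 : g ^ 3 = 1 := by rw [← hg]; exact pow_orderOf_eq_one g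
      calc g * (g * (g * s * g⁻¹) * g⁻¹) * g⁻¹ = g ^ 3 * s * (g ^ 3)⁻¹ := by simp only [pow_succ, pow_zero, one_mul]; group
        _ = s := by rw [h3]; group
    rw [e2, e1] at e3
    exact hz1 (mul_eq_right.mp e3)
  haveI := Fintype.ofFinite (IrrCharacter (H ⧸ Z))
  haveI := Fintype.ofFinite (H ⧸ Z)
  choose deg hdeg0 hdeg using fun φ : IrrCharacter (H ⧸ Z) => IsIrrCharacter.exists_apply_one φ.2
  have hd13 : ∀ φ, deg φ = 1 ∨ deg φ = 3 := fun φ => by
    have h := IsIrrCharacter.degree_dvd_index_of_abelian φ.2 V hVab (hdeg φ)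
    rw [hVi] at h
    exact (Nat.dvd_prime Nat.prime_three).mp h
  have hall : primeDegCount 2 (H ⧸ Z) = Fintype.card (IrrCharacter (H ⧸ Z)) := by
    rw [primeDegCount, ← Nat.card_eq_fintype_card]
    refine Nat.card_congr (Equiv.subtypeUnivEquiv fun φ => ?_)
    rw [charDegree_natCast (hdeg φ)]
    rcases hd13 φ with h | h <;> rw [h] <;> decide
  rw [hall]
  have hsq : ∑ φ, deg φ ^ 2 = 12 := by
    have h := sum_degree_sq (G := H ⧸ Z)
    rw [hQ] at h
    have : ((∑ φ, deg φ ^ 2 : ℕ) : ℂ) = ((12 : ℕ) : ℂ) := by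
      rw [Nat.cast_sum, ← h]
      exact Finset.sum_congr rfl fun φ _ => by rw [hdeg φ, Nat.cast_pow]
    exact_mod_cast this
  set A := Finset.univ.filter fun φ => deg φ = 1 with hA
  have hB : ∀ φ ∈ Aᶜ, deg φ = 3 := fun φ hφ => by
    rcases hd13 φ with h | h
    · exact absurd (show φ ∈ A from Finset.mem_filter.mpr ⟨Finset.mem_univ _, h⟩) (Finset.mem_compl.mp hφ)
    · exact h
  have hsum := Finset.sum_add_sum_compl A fun φ => deg φ ^ 2
  rw [Finset.sum_congr rfl fun φ hφ => by rw [(Finset.mem_filter.mp hφ).2],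
    Finset.sum_congr (s₁ := Aᶜ) rfl fun φ hφ => by rw [hB φ hφ], hsq] at hsum
  simp only [one_pow, Finset.sum_const, smul_eq_mul, mul_one] at hsum
  have hcardA : A.card = (commutator (H ⧸ Z)).index := by
    rw [← card_linear_irr, Nat.card_eq_fintype_card, Fintype.card_subtype, hA]
    congr 1
    ext φ
    simp [hdeg φ]
  have h3A : 3 ∣ A.card := by
    rw [hcardA]
    refine hVi ▸ Subgroup.index_dvd_of_le ?_
    refine Subgroup.Normal.quotient_commutative_iff_commutator_le.mp ⟨⟨fun a b => ?_⟩⟩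
    haveI : IsCyclic ((H ⧸ Z) ⧸ V) := isCyclic_of_prime_card (p := 3) hVi
    exact IsMulCommutative.is_comm.comm a b
  have hlt : A.card ≠ 12 := fun h => hnab (comm_iff_forall_irr_one.mpr fun φ => by
    have hA0 : Aᶜ.card = 0 := by
      norm_num at hsum
      omega
    rw [hdeg φ]
    rcases hd13 φ with h1 | h1
    · rw [h1, Nat.cast_one]
    · exfalso
      rw [Finset.card_eq_zero] at hA0
      have : φ ∈ Aᶜ := Finset.mem_compl.mpr fun hm => by rw [(Finset.mem_filter.mp hm).2] at h1; omega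
      rw [hA0] at this
      simp at this)
  have h0 : 0 < A.card := by rw [hcardA]; exact Nat.pos_of_ne_zero Subgroup.index_ne_zero_of_finite
  have := A.card_add_card_compl
  norm_num at hsum
  omega

end group

section sl

variable {F : Type*} [Field F] [Fintype F] [DecidableEq F]

local notation "SL2" => Matrix.SpecialLinearGroup (Fin 2) F

theorem primeDegCount_SL2 (hodd : Odd (Fintype.card F)) (ℓ : ℕ) :
    primeDegCount ℓ SL2 = (if ℓ ∣ 1 then 0 else 1) + (if ℓ ∣ Fintype.card F then 0 else 1) +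
      (if ℓ ∣ Fintype.card F + 1 then 0 else (Fintype.card F - 3) / 2) +
      (if ℓ ∣ (Fintype.card F + 1) / 2 then 0 else 2) +
      (if ℓ ∣ Fintype.card F - 1 then 0 else (Fintype.card F - 1) / 2) +
      (if ℓ ∣ (Fintype.card F - 1) / 2 then 0 else 2) := by
  classical
  haveI : Fintype (IrrCharacter SL2) := Fintype.ofFinite _
  have hmod := Nat.odd_iff.mp hodd
  have hq := Fintype.one_lt_card (α := F)
  choose deg hdeg0 hdeg using fun χ : IrrCharacter SL2 => IsIrrCharacter.exists_apply_one χ.2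
  have cast_eq : ∀ (χ : IrrCharacter SL2) (n : ℕ), χ.1 1 = (n : ℂ) ↔ deg χ = n := fun χ n => by
    rw [hdeg χ, Nat.cast_inj]
  obtain ⟨c1, c2, c3, c4, c5, c6⟩ := counts_odd hodd
  have e3 : (Fintype.card F : ℂ) + 1 = ((Fintype.card F + 1 : ℕ) : ℂ) := by push_cast; rfl
  have e5 : (Fintype.card F : ℂ) - 1 = ((Fintype.card F - 1 : ℕ) : ℂ) := by
    rw [Nat.cast_sub Fintype.card_pos, Nat.cast_one]
  rw [← Nat.cast_one (R := ℂ)] at c1
  rw [e3] at c3
  rw [e5] at c5
  simp only [Nat.card_eq_fintype_card, Fintype.card_subtype, cast_eq] at c1 c2 c3 c4 c5 c6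
  let u : ℕ → ℕ := fun n => if ℓ ∣ n then 0 else 1
  have hw : ∀ (n c : ℕ), (if ℓ ∣ n then 0 else c) = u n * c := fun n c => by
    simp only [u]; split_ifs <;> simp
  suffices key : (Finset.univ.filter fun χ : IrrCharacter SL2 => ¬ ℓ ∣ Cfsg.charDegree (χ : SL2 → ℂ)).card =
      u 1 * (Finset.univ.filter fun χ : IrrCharacter SL2 => ¬ CuspSL χ.1 ∧ deg χ = 1).card +
      u (Fintype.card F) * (Finset.univ.filter fun χ : IrrCharacter SL2 => ¬ CuspSL χ.1 ∧ deg χ = Fintype.card F).card +
      u (Fintype.card F + 1) * (Finset.univ.filter fun χ : IrrCharacter SL2 => ¬ CuspSL χ.1 ∧ deg χ = Fintype.card F + 1).card +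
      u ((Fintype.card F + 1) / 2) * (Finset.univ.filter fun χ : IrrCharacter SL2 => ¬ CuspSL χ.1 ∧ deg χ = (Fintype.card F + 1) / 2).card +
      u (Fintype.card F - 1) * (Finset.univ.filter fun χ : IrrCharacter SL2 => CuspSL χ.1 ∧ deg χ = Fintype.card F - 1).card +
      u ((Fintype.card F - 1) / 2) * (Finset.univ.filter fun χ : IrrCharacter SL2 => CuspSL χ.1 ∧ deg χ = (Fintype.card F - 1) / 2).card by
    rw [c1, c2, c3, c4, c5, c6, mul_one, mul_one] at key
    rw [primeDegCount, Nat.card_eq_fintype_card, Fintype.card_subtype, key, hw (Fintype.card F + 1), hw ((Fintype.card F + 1) / 2),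
      hw (Fintype.card F - 1), hw ((Fintype.card F - 1) / 2)]
  simp only [u, ← card_filter_eq_sum_indicator, Finset.mul_sum, ← Finset.sum_add_distrib]
  refine Finset.sum_congr rfl fun χ _ => ?_
  rw [charDegree_natCast (hdeg χ)]
  rcases kinds_all χ.2 with ⟨hc, h⟩ | ⟨hc, h⟩
  · rcases h with ⟨-, e⟩ | ⟨-, e⟩ | ⟨-, e⟩ | ⟨-, e⟩ <;> rw [cast_eq] at e <;>
      simp only [e, hc, not_false_eq_true, true_and, false_and, if_false, mul_zero, add_zero] <;>
      split_ifs <;> omega
  · rcases h with ⟨-, e⟩ | e <;> rw [cast_eq] at e <;>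
      simp only [e, hc, not_true_eq_false, true_and, false_and, if_false, mul_zero, zero_add, add_zero] <;>
      split_ifs <;> omega

theorem primeDegCount_cellNorm (hodd : Odd (Fintype.card F)) {ℓ : ℕ} (hℓ : ℓ.Prime) (hℓ2 : ℓ ≠ 2) {x : SL2}
    (hx : x ∉ Subgroup.center SL2) (ht : tr x ^ 2 ≠ 4) :
    primeDegCount ℓ (cellNorm ⊤ x) = (Nat.card (cell ⊤ x) + 6) / 2 := by
  have h20 := two_ne_zero_of_odd hodd
  have hle := Cfsg.Agent.Lib.Geometry.Dickson.cell_le_cellNorm (⊤ : Subgroup SL2) x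
  have hidx : ((cell ⊤ x).subgroupOf (cellNorm ⊤ x)).index = 2 := by
    have h := ((cell ⊤ x).subgroupOf (cellNorm ⊤ x)).index_mul_card
    rw [Nat.card_congr (Subgroup.subgroupOfEquivOfLe hle).toEquiv, Cfsg.Agent.Lib.PSLSpec.card_cellNorm hx ht] at h
    exact Nat.eq_of_mul_eq_mul_right Nat.card_pos h
  haveI : ((cell ⊤ x).subgroupOf (cellNorm ⊤ x)).Normal := Subgroup.normal_of_index_eq_two hidx
  rw [primeDegCount_abelian_normal ℓ ((cell ⊤ x).subgroupOf (cellNorm ⊤ x))
    (fun a ha b hb => Subtype.ext (Cfsg.Agent.Lib.Geometry.Dickson.centralizer_comm hx ha.1 hb.1))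
    (fun d hd hld => hℓ2 ((Nat.prime_dvd_prime_iff_eq hℓ Nat.prime_two).mp (hld.trans (hidx ▸ hd))))]
  have h := Cfsg.Agent.Lib.PSLSpec.card_conjClasses_cellNorm h20 hx ht
  omega

omit [Fintype F] [DecidableEq F] in
theorem eq_sign_of_sq_eq_one (h2 : (2 : F) ≠ 0) {g : SL2} (hg : g ^ 2 = 1) : g = 1 ∨ g = negOne F := by
  have hinv : g = g⁻¹ := eq_inv_of_mul_eq_one_left (by rw [← sq]; exact hg)
  have hM := congrArg (fun k : SL2 => (k : Matrix (Fin 2) (Fin 2) F)) hinv
  simp only [Matrix.SpecialLinearGroup.coe_inv, Matrix.adjugate_fin_two] at hM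
  have e00 := congrFun (congrFun hM 0) 0
  have e01 := congrFun (congrFun hM 0) 1
  have e10 := congrFun (congrFun hM 1) 0
  simp at e00 e01 e10
  have h01 : (g : Matrix (Fin 2) (Fin 2) F) 0 1 = 0 := by
    have : (2 : F) * (g : Matrix (Fin 2) (Fin 2) F) 0 1 = 0 := by linear_combination e01
    exact (mul_eq_zero.mp this).resolve_left h2
  have h10 : (g : Matrix (Fin 2) (Fin 2) F) 1 0 = 0 := by
    have : (2 : F) * (g : Matrix (Fin 2) (Fin 2) F) 1 0 = 0 := by linear_combination e10
    exact (mul_eq_zero.mp this).resolve_left h2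
  have hd := Cfsg.Agent.Lib.SL2Trace.det_eq g
  rw [h01, zero_mul, sub_zero, ← e00] at hd
  rcases mul_self_eq_one_iff.mp hd with h | h
  · left
    apply Subtype.ext
    rw [Matrix.SpecialLinearGroup.coe_one]
    ext i j
    fin_cases i <;> fin_cases j <;> simp [h, h01, h10, ← e00]
  · right
    apply Subtype.ext
    rw [negOne_coe]
    ext i j
    fin_cases i <;> fin_cases j <;> simp [h, h01, h10, ← e00]

/-- The upper unitriangular subgroup. -/
def uniHomSL : Multiplicative F →* SL2 where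
  toFun c := uni (Multiplicative.toAdd c)
  map_one' := uni_zero
  map_mul' a b := by
    apply Subtype.ext
    rw [Matrix.SpecialLinearGroup.coe_mul, uni_coe, uni_coe, uni_coe]
    ext i j
    fin_cases i <;> fin_cases j <;> simp [Matrix.mul_apply, Fin.sum_univ_two, add_comm]

theorem uniHomSL_injective : Function.Injective (uniHomSL (F := F)) := fun a b h => by
  have h' : uni (Multiplicative.toAdd a) = uni (Multiplicative.toAdd b) := h
  have := congrArg (fun k : SL2 => (k : Matrix (Fin 2) (Fin 2) F) 0 1) h'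
  exact Multiplicative.toAdd.injective (by simpa [uni_coe] using this)

omit [Fintype F] [DecidableEq F] in
theorem conj_uni_borel {g : SL2} (hg : (g : Matrix (Fin 2) (Fin 2) F) 1 0 = 0) (c : F) :
    ∃ c', g * uni c * g⁻¹ = uni c' := by
  refine ⟨(g : Matrix (Fin 2) (Fin 2) F) 0 0 ^ 2 * c, ?_⟩
  rw [mul_inv_eq_iff_eq_mul]
  apply Subtype.ext
  have hd := Cfsg.Agent.Lib.SL2Trace.det_eq g
  rw [hg, mul_zero, sub_zero] at hd
  rw [Matrix.SpecialLinearGroup.coe_mul, Matrix.SpecialLinearGroup.coe_mul, uni_coe, uni_coe]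
  ext i j
  fin_cases i <;> fin_cases j <;> simp [Matrix.mul_apply, Fin.sum_univ_two, hg]
  linear_combination -((g : Matrix (Fin 2) (Fin 2) F) 0 0 * c) * hd

theorem normalizer_uni : Subgroup.normalizer (((uniHomSL (F := F)).range : Subgroup SL2) : Set SL2) = borelSL F := by
  ext g
  rw [mem_borelSL]
  constructor
  · intro hg
    obtain ⟨c, hc⟩ := (Subgroup.mem_normalizer_iff.mp hg (uni 1)).mp ⟨Multiplicative.ofAdd 1, rfl⟩
    have hc' : uni (Multiplicative.toAdd c) = g * uni 1 * g⁻¹ := hc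
    have h := congrArg (fun k : SL2 => ((k * g : SL2) : Matrix (Fin 2) (Fin 2) F) 0 0) hc'
    have h2 := congrArg (fun k : SL2 => ((k * g : SL2) : Matrix (Fin 2) (Fin 2) F) 1 1) hc'
    simp only [inv_mul_cancel_right, Matrix.SpecialLinearGroup.coe_mul, uni_coe] at h h2
    simp [Matrix.mul_apply, Fin.sum_univ_two] at h2
    exact h2
  · intro hg
    refine Subgroup.mem_normalizer_iff.mpr fun k => ⟨?_, ?_⟩
    · rintro ⟨c, rfl⟩
      obtain ⟨c', hc'⟩ := conj_uni_borel hg (Multiplicative.toAdd c)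
      exact ⟨Multiplicative.ofAdd c', hc'.symm⟩
    · intro hk
      obtain ⟨c, hc⟩ := hk
      have hi : ((g⁻¹ : SL2) : Matrix (Fin 2) (Fin 2) F) 1 0 = 0 := by
        rw [Matrix.SpecialLinearGroup.coe_inv, Matrix.adjugate_fin_two]; simp [hg]
      obtain ⟨c', hc'⟩ := conj_uni_borel hi (Multiplicative.toAdd c)
      refine ⟨Multiplicative.ofAdd c', ?_⟩
      change uni c' = k
      rw [← hc', show uni (Multiplicative.toAdd c) = g * k * g⁻¹ from hc]
      group

theorem primeDegCount_borel (hodd : Odd (Fintype.card F)) (p : ℕ) [Fact p.Prime] [CharP F p] :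
    primeDegCount p (borelSL F) = Fintype.card F + 3 := by
  have hle : (uniHomSL (F := F)).range ≤ borelSL F := by
    rw [← normalizer_uni]; exact Subgroup.le_normalizer
  let U := ((uniHomSL (F := F)).range).subgroupOf (borelSL F)
  haveI : U.Normal := by
    rw [Subgroup.normal_subgroupOf_iff_le_normalizer hle, normalizer_uni]
  have hidx : U.index = Fintype.card F - 1 := by
    have h := U.index_mul_card
    rw [Nat.card_congr (Subgroup.subgroupOfEquivOfLe hle).toEquiv,
      ← Nat.card_congr (MonoidHom.ofInjective (uniHomSL_injective (F := F))).toEquiv,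
      ← Nat.card_congr (borelEquivSL (F := F)), Nat.card_prod, Nat.card_units, Nat.card_congr Multiplicative.toAdd,
      Nat.card_eq_fintype_card] at h
    exact Nat.eq_of_mul_eq_mul_right Fintype.card_pos h
  obtain ⟨n, -, hn⟩ := FiniteField.card F p
  rw [primeDegCount_abelian_normal p U (fun a ha b hb => by
    obtain ⟨x, hx⟩ := ha
    obtain ⟨y, hy⟩ := hb
    apply Subtype.ext
    simp only [Subgroup.coe_mul, ← show _ = (a : SL2) from hx, ← show _ = (b : SL2) from hy, ← map_mul, mul_comm x y])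
    (fun d hd hpd => by
      rw [hidx] at hd
      have h1 := Nat.dvd_sub (hn ▸ dvd_pow_self p n.ne_zero : p ∣ Fintype.card F) (hpd.trans hd)
      rw [Nat.sub_sub_self Fintype.card_pos] at h1
      exact (Fact.out : p.Prime).not_dvd_one h1)]
  exact Cfsg.Agent.S2437.result hodd

theorem mckay_sl2 (hodd : Odd (Fintype.card F)) (ℓ : ℕ) [hℓ : Fact ℓ.Prime] (S : Sylow ℓ SL2) :
    primeDegCount ℓ SL2 = primeDegCount ℓ (Subgroup.normalizer ((S : Subgroup SL2) : Set SL2)) := by
  classical
  have hmod := Nat.odd_iff.mp hodd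
  have hq := Fintype.one_lt_card (α := F)
  have h20 := two_ne_zero_of_odd hodd
  have hcG := card_SL2 (F := F)
  have hsq : Fintype.card F ^ 2 - 1 = (Fintype.card F + 1) * (Fintype.card F - 1) := sq_sub_one _
  obtain ⟨p, hp, hpc⟩ := Cfsg.Agent.Lib.Classical.exists_charP (F := F)
  obtain ⟨n, -, hn⟩ := FiniteField.card F p
  have hL := primeDegCount_SL2 hodd ℓ
  by_cases hℓp : ℓ = p
  · subst hℓp
    have hU : IsPGroup ℓ (uniHomSL (F := F)).range := by
      refine IsPGroup.of_card (n := n) ?_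
      rw [← Nat.card_congr (MonoidHom.ofInjective (uniHomSL_injective (F := F))).toEquiv,
        Nat.card_congr Multiplicative.toAdd, Nat.card_eq_fintype_card, hn]
    have hndv : ¬ ℓ ∣ (uniHomSL (F := F)).range.index := by
      intro h
      have h2 := (uniHomSL (F := F)).range.index_mul_card
      rw [← Nat.card_congr (MonoidHom.ofInjective (uniHomSL_injective (F := F))).toEquiv,
        Nat.card_congr Multiplicative.toAdd, Nat.card_eq_fintype_card, hcG, mul_comm (Fintype.card F)] at h2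
      rw [Nat.eq_of_mul_eq_mul_right Fintype.card_pos h2, hsq] at h
      have hlq : ℓ ∣ Fintype.card F := hn ▸ dvd_pow_self ℓ n.ne_zero
      rcases hℓ.out.dvd_mul.mp h with h | h
      · exact hℓ.out.not_dvd_one ((Nat.dvd_add_right hlq).mp h)
      · have := Nat.dvd_sub hlq h
        rw [Nat.sub_sub_self Fintype.card_pos] at this
        exact hℓ.out.not_dvd_one this
    let U : Sylow ℓ SL2 := hU.toSylow hndv
    obtain ⟨g, hg⟩ := MulAction.exists_smul_eq SL2 U S
    let e : Subgroup.normalizer ((U : Subgroup SL2) : Set SL2) ≃*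
        Subgroup.normalizer ((S : Subgroup SL2) : Set SL2) :=
      ((Subgroup.normalizer ((U : Subgroup SL2) : Set SL2)).equivMapOfInjective (MulAut.conj g).toMonoidHom
        (MulAut.conj g).injective).trans (MulEquiv.subgroupCongr (by
        have hgS : (S : Subgroup SL2) = (U : Subgroup SL2).map (MulAut.conj g).toMonoidHom := by
          rw [← hg, Sylow.coe_subgroup_smul, Subgroup.pointwise_smul_def]; rfl
        rw [hgS]
        exact Subgroup.map_equiv_normalizer_eq _ (MulAut.conj g)))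
    rw [← primeDegCount_congr ℓ e]
    have hUn : Subgroup.normalizer ((U : Subgroup SL2) : Set SL2) = borelSL F := normalizer_uni
    rw [hUn, primeDegCount_borel hodd ℓ, hL]
    have hlq : ℓ ∣ Fintype.card F := hn ▸ dvd_pow_self ℓ n.ne_zero
    have h2 : ¬ ℓ ∣ 2 := fun h => by
      rw [Nat.prime_dvd_prime_iff_eq hℓ.out Nat.prime_two] at h
      subst h; omega
    have a1 : ¬ ℓ ∣ Fintype.card F + 1 := fun h => hℓ.out.not_dvd_one ((Nat.dvd_add_right hlq).mp h)
    have a2 : ¬ ℓ ∣ Fintype.card F - 1 := fun h => by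
      have := Nat.dvd_sub hlq h
      rw [Nat.sub_sub_self Fintype.card_pos] at this
      exact hℓ.out.not_dvd_one this
    have a3 : ¬ ℓ ∣ (Fintype.card F + 1) / 2 := fun h => a1 (by
      have := h.mul_left 2; rwa [show 2 * ((Fintype.card F + 1) / 2) = Fintype.card F + 1 by omega] at this)
    have a4 : ¬ ℓ ∣ (Fintype.card F - 1) / 2 := fun h => a2 (by
      have := h.mul_left 2; rwa [show 2 * ((Fintype.card F - 1) / 2) = Fintype.card F - 1 by omega] at this)
    rw [if_neg hℓ.out.not_dvd_one, if_pos hlq, if_neg a1, if_neg a2, if_neg a3, if_neg a4]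
    omega
  have hlq : ¬ ℓ ∣ Fintype.card F := fun h =>
    hℓp ((Nat.prime_dvd_prime_iff_eq hℓ.out hp.out).mp (hℓ.out.dvd_of_dvd_pow (hn ▸ h)))
  by_cases hℓ2 : ℓ = 2
  · subst hℓ2
    have hna := Cfsg.Agent.Lib.Classical.exists_two_sylow_nonabelian h20 S
    obtain ⟨k, hk, ⟨e⟩⟩ := Cfsg.Agent.Lib.Classical.sylow_two_SL2_quaternion h20 S
    have hcS : Nat.card (S : Subgroup SL2) = 2 ^ (k + 2) := by
      rw [Nat.card_congr e.toEquiv, Nat.card_eq_fintype_card, QuaternionGroup.card, pow_succ, pow_succ]; ring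
    have hL4 : primeDegCount 2 SL2 = 4 := by
      rw [hL, if_neg (by omega), if_neg (by omega), if_pos (by omega), if_pos (show 2 ∣ Fintype.card F - 1 by omega)]
      split_ifs <;> omega
    rw [hL4]
    haveI : NeZero (2 ^ k) := ⟨by positivity⟩
    have hcomm : Nat.card (commutator (S : Subgroup SL2)) = 2 ^ k := by
      have h1 : (commutator (S : Subgroup SL2)).map e.toMonoidHom = commutator (QuaternionGroup (2 ^ k)) := by
        rw [commutator_def, Subgroup.map_commutator, Subgroup.map_top_of_surjective _ e.surjective, ← commutator_def]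
      rw [Nat.card_congr ((commutator (S : Subgroup SL2)).equivMapOfInjective e.toMonoidHom e.injective).toEquiv, h1,
        commutator_def, quat_commutator, Nat.card_zpowers, quat_orderOf_a_two]
    have hSab : (commutator (S : Subgroup SL2)).index = 4 := by
      have := (commutator (S : Subgroup SL2)).index_mul_card
      rw [hcomm, hcS, pow_add, mul_comm (2 ^ k)] at this
      simpa using Nat.eq_of_mul_eq_mul_right (by positivity) this
    rcases Nat.lt_or_ge k 2 with hk1 | hk2
    · obtain rfl : k = 1 := by omega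
      have h16 : ¬ 16 ∣ Nat.card SL2 := fun h => by
        have := S.pow_dvd_card_of_pow_dvd_card (n := 4) h
        rw [hcS] at this
        norm_num at this
      have hN := Cfsg.Agent.S2431.card_normalizer_of_eight h20 S (by rw [hcS]; rfl) h16 hna
      set N := Subgroup.normalizer ((S : Subgroup SL2) : Set SL2) with hNdef
      have hSN : (S : Subgroup SL2) ≤ N := Subgroup.le_normalizer
      haveI : ((S : Subgroup SL2).subgroupOf N).Normal :=
        (Subgroup.normal_subgroupOf_iff_le_normalizer hSN).mpr le_rfl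
      -- the central involution
      have hcs : ∀ a ∈ (S : Subgroup SL2), ∀ b ∈ (S : Subgroup SL2), ⁅a, b⁆ = 1 ∨ ⁅a, b⁆ = negOne F := by
        intro a ha b hb
        let c : (S : Subgroup SL2) := ⁅(⟨a, ha⟩ : (S : Subgroup SL2)), (⟨b, hb⟩ : (S : Subgroup SL2))⁆
        have hm : c ∈ commutator (S : Subgroup SL2) := by
          rw [commutator_def]
          exact Subgroup.commutator_mem_commutator (Subgroup.mem_top _) (Subgroup.mem_top _)
        have hpow : c ^ 2 = 1 := by
          have := pow_card_eq_one' (x := (⟨c, hm⟩ : commutator (S : Subgroup SL2)))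
          rw [hcomm, pow_one] at this
          exact congrArg Subtype.val this
        have hp2 : ⁅a, b⁆ ^ 2 = 1 := by simpa [c, commutatorElement_def] using congrArg Subtype.val hpow
        exact eq_sign_of_sq_eq_one h20 hp2
      have hz : (⟨negOne F, Subgroup.mem_normalizer_iff.mpr fun h => by
          rw [negOne_comm h, mul_inv_cancel_right]⟩ : N) ∈ Subgroup.center N :=
        Subgroup.mem_center_iff.mpr fun g => Subtype.ext (negOne_comm (g : SL2)).symm
      symm
      refine primeDegCount_twentyfour hN ((S : Subgroup SL2).subgroupOf N)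
        (by rw [Nat.card_congr (Subgroup.subgroupOfEquivOfLe hSN).toEquiv, hcS]; rfl) _ hz
        (Subtype.ext negOne_sq) (fun h => negOne_ne_one h20 (congrArg Subtype.val h)) ?_ ?_ ?_
      · obtain ⟨a, ha, b, hb, hab⟩ := hna
        refine ⟨⟨a, hSN ha⟩, ha, ⟨b, hSN hb⟩, hb, Subtype.ext ?_⟩
        exact (hcs a ha b hb).resolve_left fun h => hab (commutatorElement_eq_one_iff_mul_comm.mp h)
      · intro a ha b hb
        rcases hcs _ ha _ hb with h | h
        · rw [show ⁅a, b⁆ = 1 from Subtype.ext h]; exact one_mem _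
        · exact ⟨1, Subtype.ext (by simpa [commutatorElement_def] using h.symm)⟩
      · intro g hg
        by_contra hcon
        push Not at hcon
        have hgc : (g : SL2) ∈ Subgroup.centralizer ((S : Subgroup SL2) : Set SL2) :=
          Subgroup.mem_centralizer_iff.mpr fun s hs => (congrArg Subtype.val (hcon ⟨s, hSN hs⟩ hs)).symm
        rw [Cfsg.Agent.S2431.centralizer_eq_center hna] at hgc
        have : g ^ 2 = 1 := by
          rcases mem_center_iff'.mp hgc with e | e <;> refine Subtype.ext ?_ <;>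
            rw [Subgroup.coe_pow, e, sq, Subgroup.coe_one]
          · exact one_mul 1
          · exact negOne_sq
        have := hg ▸ orderOf_dvd_of_pow_eq_one this
        norm_num at this
    · rw [Cfsg.Agent.S2431.normalizer_eq_self_of_large h20 S hk2 e hna, primeDegCount_two_group S.isPGroup', hSab]
  by_cases hdiv : ℓ ∣ Nat.card SL2
  · haveI := Cfsg.Agent.Lib.Classical.sylow_odd_SL2_cyclic p ℓ hℓ2 hℓp S
    obtain ⟨⟨x, hxS⟩, hgen⟩ := IsCyclic.exists_generator (α := (S : Subgroup SL2))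
    have hS1 : 1 < Nat.card (S : Subgroup SL2) :=
      lt_of_lt_of_le hℓ.out.one_lt (Nat.le_of_dvd Nat.card_pos (S.dvd_card_of_dvd_card hdiv))
    have hox : orderOf x = Nat.card (S : Subgroup SL2) := by
      rw [← orderOf_eq_card_of_forall_mem_zpowers hgen, ← Subgroup.orderOf_coe]
    have hlS : ℓ ∣ Nat.card (S : Subgroup SL2) := S.dvd_card_of_dvd_card hdiv
    have hxZ : x ∉ Subgroup.center SL2 := fun hz => by
      have h2 : x ^ 2 = 1 := by
        rcases mem_center_iff'.mp hz with e | e <;> rw [e, sq]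
        · exact one_mul 1
        · exact negOne_sq
      exact hℓ2 ((Nat.prime_dvd_prime_iff_eq hℓ.out Nat.prime_two).mp
        ((hox.symm ▸ hlS : ℓ ∣ orderOf x).trans (orderOf_dvd_of_pow_eq_one h2)))
    have hle : (S : Subgroup SL2) ≤ cell ⊤ x := fun s hs => by
      obtain ⟨i, hi⟩ := Subgroup.mem_zpowers_iff.mp (hgen ⟨s, hs⟩)
      have : x ^ i = s := by simpa using congrArg Subtype.val hi
      exact Cfsg.Agent.Lib.PSLSpec.mem_cell_iff.mpr (this ▸ (Commute.zpow_self x i).eq)
    have hlc : ℓ ∣ Nat.card (cell ⊤ x) := hlS.trans (Subgroup.card_dvd_of_le hle)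
    have ht : tr x ^ 2 ≠ 4 := fun ht => by
      rw [Cfsg.Agent.Lib.PSLSpec.card_cell_unipotent hxZ ht, Cfsg.Agent.Lib.PSLSpec.card_sqrt_one_odd h20] at hlc
      rcases hℓ.out.dvd_mul.mp hlc with h | h
      · exact hℓ2 ((Nat.prime_dvd_prime_iff_eq hℓ.out Nat.prime_two).mp h)
      · exact hlq h
    rw [Cfsg.Agent.Lib.PSLSpec.normalizer_of_le_cell hxZ ht hle hxS hxZ,
      primeDegCount_cellNorm hodd hℓ.out hℓ2 hxZ ht, hL, if_neg hℓ.out.not_dvd_one, if_neg hlq]
    have h2l : ¬ ℓ ∣ 2 := fun h => hℓ2 ((Nat.prime_dvd_prime_iff_eq hℓ.out Nat.prime_two).mp h)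
    have half : ∀ m, 2 ∣ m → (ℓ ∣ m / 2 ↔ ℓ ∣ m) := fun m hm => by
      obtain ⟨j, rfl⟩ := hm
      rw [Nat.mul_div_cancel_left _ two_pos, hℓ.out.dvd_mul, or_iff_right h2l]
    simp only [half _ (show 2 ∣ Fintype.card F + 1 by omega), half _ (show 2 ∣ Fintype.card F - 1 by omega)]
    have hboth : ¬ (ℓ ∣ Fintype.card F + 1 ∧ ℓ ∣ Fintype.card F - 1) := fun ⟨a, b⟩ => by
      have := Nat.dvd_sub a b
      rw [show Fintype.card F + 1 - (Fintype.card F - 1) = 2 by omega] at this
      exact h2l this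
    rcases Cfsg.Agent.Lib.PSLSpec.card_cell_regular ht with ⟨-, hk⟩ | ⟨-, hk⟩ <;> rw [hk] at hlc ⊢
    · rw [if_neg (fun h => hboth ⟨h, hlc⟩), if_pos hlc, if_neg (fun h => hboth ⟨h, hlc⟩), if_pos hlc]
      omega
    · rw [if_pos hlc, if_neg (fun h => hboth ⟨hlc, h⟩), if_pos hlc, if_neg (fun h => hboth ⟨hlc, h⟩)]
      omega
  · have hbot : (S : Subgroup SL2) = ⊥ := by
      rw [← Subgroup.card_eq_one, S.card_eq_multiplicity, Nat.factorization_eq_zero_of_not_dvd hdiv, pow_zero]
    rw [hbot]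
    exact primeDegCount_congr ℓ ((MulEquiv.subgroupCongr (Subgroup.normalizer_eq_top _)).trans Subgroup.topEquiv).symm

end sl

end Cfsg.Agent.Lib.OddChar.SL2
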