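import Mathlib
import Cfsg.Agent.Lib.KnownA.SL2Values
import Cfsg.Agent.Lib.PSLSpec.TorusNorm

/-! A cyclic subgroup of order `q + 1` of `SL₂(q)`, `q` odd, and the functions induced from it. -/

set_option autoImplicit false
set_option maxHeartbeats 800000

namespace Cfsg.Agent.Lib.OddChar.SL2

open scoped ComplexConjugate
open Matrix Cfsg Cfsg.Agent.Lib.Characters Cfsg.Agent.Lib.KnownA
open Cfsg.Agent.Lib.Geometry.Dickson (cell cellNorm IsSplit)
open Cfsg.Agent.Lib.SL2Trace (tr)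

variable {F : Type*} [Field F] [Fintype F]

local notation "SL2" => Matrix.SpecialLinearGroup (Fin 2) F

theorem negOne_ne_one (h2 : (2 : F) ≠ 0) : (negOne F : SL2) ≠ 1 := fun h => by
  have := congrArg (fun k : SL2 => (k : Matrix (Fin 2) (Fin 2) F) 0 0) h
  simp [negOne_coe] at this
  exact h2 (by linear_combination -this)

omit [Fintype F] in
theorem negOne_eq : (negOne F : SL2) = -1 := by
  apply Subtype.ext
  rw [negOne_coe]
  ext i j
  fin_cases i <;> fin_cases j <;> simp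

omit [Fintype F] in
theorem mem_center_iff' {g : SL2} : g ∈ Subgroup.center SL2 ↔ g = 1 ∨ g = negOne F := by
  rw [Cfsg.Agent.Lib.SL2Trace.mem_center_iff, negOne_eq]

omit [Fintype F] in
theorem noEigen_of_not_isSplit {g : SL2} (h : ¬ IsSplit g) :
    ∀ (c : F) (v : Fin 2 → F), v ≠ 0 → (g : Matrix (Fin 2) (Fin 2) F).mulVec v ≠ c • v := by
  intro c v hv hgv
  have hd : ((g : Matrix (Fin 2) (Fin 2) F) - c • (1 : Matrix (Fin 2) (Fin 2) F)).det = 0 := by
    refine Matrix.exists_mulVec_eq_zero_iff.mp ⟨v, hv, ?_⟩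
    rw [Matrix.sub_mulVec, Matrix.smul_mulVec, Matrix.one_mulVec, sub_eq_zero]
    exact hgv
  refine h ⟨c, ?_⟩
  rw [Matrix.det_fin_two] at hd
  simp at hd
  rw [Cfsg.Agent.Lib.SL2Trace.tr_eq]
  linear_combination hd - Cfsg.Agent.Lib.SL2Trace.det_eq g

omit [Fintype F] in
theorem not_isSplit_of_noEigen {g : SL2}
    (hg : ∀ (c : F) (v : Fin 2 → F), v ≠ 0 → (g : Matrix (Fin 2) (Fin 2) F).mulVec v ≠ c • v) :
    ¬ IsSplit g := by
  rintro ⟨r, hr⟩
  obtain ⟨v, hv, hv0⟩ : ∃ v : Fin 2 → F, v ≠ 0 ∧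
      ((g : Matrix (Fin 2) (Fin 2) F) - r • (1 : Matrix (Fin 2) (Fin 2) F)).mulVec v = 0 := by
    refine Matrix.exists_mulVec_eq_zero_iff.mpr ?_
    rw [Cfsg.Agent.Lib.SL2Trace.tr_eq] at hr
    rw [Matrix.det_fin_two]
    simp
    linear_combination hr + Cfsg.Agent.Lib.SL2Trace.det_eq g
  exact hg r v hv (by rwa [Matrix.sub_mulVec, Matrix.smul_mulVec, Matrix.one_mulVec, sub_eq_zero] at hv0)

variable {T : Subgroup (Matrix.SpecialLinearGroup (Fin 2) F)}

/-- The hypotheses on the torus. -/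
structure IsTorus (T : Subgroup (Matrix.SpecialLinearGroup (Fin 2) F)) : Prop where
  odd : Odd (Fintype.card F)
  cyclic : IsCyclic T
  card : Nat.card T = Fintype.card F + 1

namespace IsTorus

theorem two_ne (H : IsTorus T) : (2 : F) ≠ 0 := two_ne_zero_of_odd H.odd

theorem three_le (H : IsTorus T) : 3 ≤ Fintype.card F := by
  have := Fintype.one_lt_card (α := F)
  have := Nat.odd_iff.mp H.odd
  omega

theorem comm (H : IsTorus T) (a b : T) : a * b = b * a :=
  letI := H.cyclic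
  IsMulCommutative.is_comm.comm a b

theorem cell_facts (H : IsTorus T) {c : SL2} (hc : c ∈ T) (hcZ : c ∉ Subgroup.center SL2) :
    tr c ^ 2 ≠ 4 ∧ ¬ IsSplit c ∧ cell ⊤ c = T := by
  have hle : T ≤ cell ⊤ c := fun x hx => Cfsg.Agent.Lib.PSLSpec.mem_cell_iff.mpr
    (congrArg Subtype.val (H.comm ⟨x, hx⟩ ⟨c, hc⟩))
  have hd := Subgroup.card_dvd_of_le hle
  have h3 := H.three_le
  have ht : tr c ^ 2 ≠ 4 := fun ht => by
    rw [Cfsg.Agent.Lib.PSLSpec.card_cell_unipotent hcZ ht, H.card,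
      Cfsg.Agent.Lib.PSLSpec.card_sqrt_one_odd H.two_ne] at hd
    have h4 : Fintype.card F + 1 ∣ 2 * (Fintype.card F + 1) := dvd_mul_left _ _
    have h5 := Nat.dvd_sub h4 hd
    rw [show 2 * (Fintype.card F + 1) - 2 * Fintype.card F = 2 by omega] at h5
    have := Nat.le_of_dvd two_pos h5
    omega
  rcases Cfsg.Agent.Lib.PSLSpec.card_cell_regular ht with ⟨-, hk⟩ | ⟨hs, hk⟩
  · exfalso
    rw [hk, H.card] at hd
    have := Nat.le_of_dvd (by omega) hd
    omega
  · exact ⟨ht, hs, (Subgroup.eq_of_le_of_card_ge hle (by rw [hk, H.card])).symm⟩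

theorem noEigen (H : IsTorus T) {c : SL2} (hc : c ∈ T) (hcZ : c ∉ Subgroup.center SL2) :
    ∀ (r : F) (v : Fin 2 → F), v ≠ 0 → (c : Matrix (Fin 2) (Fin 2) F).mulVec v ≠ r • v :=
  noEigen_of_not_isSplit (H.cell_facts hc hcZ).2.1

theorem exists_generator (H : IsTorus T) :
    ∃ c : T, (∀ x : T, x ∈ Subgroup.zpowers c) ∧ (c : SL2) ∉ Subgroup.center SL2 := by
  obtain ⟨c, hc⟩ := H.cyclic.exists_generator
  refine ⟨c, hc, fun hz => ?_⟩
  have h3 := H.three_le
  have ho : orderOf c = Fintype.card F + 1 := by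
    rw [orderOf_eq_card_of_forall_mem_zpowers hc, H.card]
  have h2 : (c : SL2) ^ 2 = 1 := by
    rcases mem_center_iff'.mp hz with e | e <;> rw [e, sq]
    · exact one_mul 1
    · exact negOne_sq
  have := Nat.le_of_dvd two_pos (orderOf_dvd_of_pow_eq_one (x := c) (Subtype.ext (by simpa using h2)))
  omega

theorem negOne_mem (H : IsTorus T) : negOne F ∈ T := by
  obtain ⟨c, -, hcZ⟩ := H.exists_generator
  rw [← (H.cell_facts c.2 hcZ).2.2]
  exact Cfsg.Agent.Lib.PSLSpec.mem_cell_iff.mpr (negOne_comm (c : SL2))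

theorem center_le (H : IsTorus T) : Subgroup.center SL2 ≤ T := fun z hz => by
  rcases mem_center_iff'.mp hz with rfl | rfl
  · exact one_mem _
  · exact H.negOne_mem

theorem index_mul (H : IsTorus T) : T.index = Fintype.card F * (Fintype.card F - 1) := by
  have h := T.index_mul_card
  rw [H.card, card_SL2] at h
  refine Nat.eq_of_mul_eq_mul_right (show 0 < Fintype.card F + 1 by omega) ?_
  rw [h, mul_assoc, mul_comm (Fintype.card F - 1)]
  congr 1
  rw [← Nat.sq_sub_sq, one_pow]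

theorem exists_conj_mem (H : IsTorus T) {g : SL2}
    (hg : ∀ (c : F) (v : Fin 2 → F), v ≠ 0 → (g : Matrix (Fin 2) (Fin 2) F).mulVec v ≠ c • v) :
    ∃ h : SL2, h * g * h⁻¹ ∈ T ∧ h * g * h⁻¹ ∉ Subgroup.center SL2 := by
  obtain ⟨c, -, hcZ⟩ := H.exists_generator
  obtain ⟨-, hs, he⟩ := H.cell_facts c.2 hcZ
  obtain ⟨h, hh⟩ := Cfsg.Agent.Lib.PSLSpec.exists_conj_mem_nonsplit H.two_ne hs (not_isSplit_of_noEigen hg)
  refine ⟨h, he ▸ hh, fun hz => ?_⟩
  have hgz : g ∈ Subgroup.center SL2 := by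
    have h1 := (inferInstance : (Subgroup.center SL2).Normal).conj_mem _ hz h⁻¹
    simpa [mul_assoc] using h1
  rcases mem_center_iff'.mp hgz with rfl | rfl
  · exact hg 1 ![1, 0] (fun e => by simpa using congrFun e 0) (by simp)
  · refine hg (-1) ![1, 0] (fun e => by simpa using congrFun e 0) ?_
    rw [negOne_coe]
    ext i
    fin_cases i <;> simp [Matrix.mulVec, dotProduct, Fin.sum_univ_two]

end IsTorus

/-- The function induced from a linear character of the torus. -/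
noncomputable def indT [DecidableEq F] (T : Subgroup (Matrix.SpecialLinearGroup (Fin 2) F)) (θ : T →* ℂˣ) :
    Matrix.SpecialLinearGroup (Fin 2) F → ℂ :=
  Cfsg.indFun T (fun t => ((θ t : ℂˣ) : ℂ))

variable [DecidableEq F]

theorem isGen_indT (θ : T →* ℂˣ) : IsGeneralizedCharacter SL2 (indT T θ) :=
  IsCharacter.isGeneralizedCharacter (IsCharacter.indFun T
    (IsIrrCharacter.isCharacter (isIrrCharacter_monoidHom ((Units.coeHom ℂ).comp θ))))

theorem indT_central (H : IsTorus T) (θ : T →* ℂˣ) {z : SL2} (hz : z ∈ Subgroup.center SL2) :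
    indT T θ z = ((Fintype.card F : ℂ) * ((Fintype.card F : ℂ) - 1)) * ((θ ⟨z, H.center_le hz⟩ : ℂˣ) : ℂ) := by
  have hx : ∀ x : SL2, extendByZero T (fun t => ((θ t : ℂˣ) : ℂ)) (x⁻¹ * z * x) =
      ((θ ⟨z, H.center_le hz⟩ : ℂˣ) : ℂ) := fun x => by
    have e : x⁻¹ * z * x = z := by rw [mul_assoc, ← Subgroup.mem_center_iff.mp hz x, inv_mul_cancel_left]
    rw [e, extendByZero_of_mem _ _ (H.center_le hz)]
  rw [indT, indFun_apply, Finset.sum_congr rfl fun x _ => hx x, Finset.sum_const, Finset.card_univ,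
    nsmul_eq_mul, ← Nat.card_eq_fintype_card, ← T.index_mul_card, H.index_mul, H.card]
  have h0 : ((Fintype.card F : ℂ) + 1) ≠ 0 := Nat.cast_add_one_ne_zero _
  push_cast [Nat.cast_sub (show 1 ≤ Fintype.card F from Fintype.card_pos)]
  field_simp

theorem indT_regular (H : IsTorus T) (θ : T →* ℂˣ) (c : T) (hcZ : (c : SL2) ∉ Subgroup.center SL2) :
    indT T θ c = ((θ c : ℂˣ) : ℂ) + ((θ c⁻¹ : ℂˣ) : ℂ) := by
  classical
  obtain ⟨ht, -, he⟩ := H.cell_facts c.2 hcZ
  let N := cellNorm (⊤ : Subgroup SL2) (c : SL2)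
  have hTN : T ≤ N := he ▸ Cfsg.Agent.Lib.Geometry.Dickson.cell_le_cellNorm ⊤ _
  have hN : Nat.card N = 2 * (Fintype.card F + 1) := by
    rw [Cfsg.Agent.Lib.PSLSpec.card_cellNorm hcZ ht, he, H.card]
  have hval : ∀ x : SL2, extendByZero T (fun t => ((θ t : ℂˣ) : ℂ)) (x⁻¹ * c * x) =
      (if x ∈ T then ((θ c : ℂˣ) : ℂ) else 0) + (if x ∈ N ∧ x ∉ T then ((θ c⁻¹ : ℂˣ) : ℂ) else 0) := by
    intro x
    by_cases hxT : x ∈ T
    · have e : x⁻¹ * c * x = c := by
        have h1 : x * c = c * x := congrArg Subtype.val (H.comm ⟨x, hxT⟩ c)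
        rw [mul_assoc, ← h1, inv_mul_cancel_left]
      rw [if_pos hxT, if_neg (fun h => h.2 hxT), add_zero, e, extendByZero_coe]
    by_cases hxN : x ∈ N
    · rw [if_neg hxT, if_pos ⟨hxN, hxT⟩, zero_add]
      have h1 := Cfsg.Agent.Lib.Geometry.Dickson.torus_inverts ⊤ (Subgroup.mem_top (c : SL2)) hcZ ht
        ((N).inv_mem hxN) (fun h => hxT (inv_inv x ▸ T.inv_mem (he ▸ h)))
        (Cfsg.Agent.Lib.Geometry.Dickson.mem_cell_self ⊤ (Subgroup.mem_top (c : SL2)))
      rw [inv_inv] at h1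
      rw [h1]
      exact extendByZero_coe T _ (c⁻¹)
    · rw [if_neg hxT, if_neg (fun h => hxN h.1), add_zero, extendByZero_of_not_mem]
      intro hm
      apply hxN
      have hmZ : x⁻¹ * c * x ∉ Subgroup.center SL2 := fun hz => hcZ (by
        have h := (inferInstance : (Subgroup.center SL2).Normal).conj_mem _ hz x
        simpa [mul_assoc] using h)
      have h2 : x⁻¹ ∈ cellNorm (⊤ : Subgroup SL2) (c : SL2) := by
        refine (Cfsg.Agent.Lib.Geometry.Dickson.mem_cellNorm_iff ⊤).mpr ⟨Subgroup.mem_top _, ?_⟩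
        rw [Cfsg.Agent.Lib.Geometry.Dickson.cell_conj ⊤ (Subgroup.mem_top _), inv_inv,
          (H.cell_facts hm hmZ).2.2, he]
      simpa using inv_mem h2
  rw [indT, indFun_apply, Finset.sum_congr rfl fun x _ => hval x, Finset.sum_add_distrib,
    Finset.sum_ite, Finset.sum_ite, Finset.sum_const_zero, Finset.sum_const_zero, Finset.sum_const,
    Finset.sum_const, add_zero, add_zero, nsmul_eq_mul, nsmul_eq_mul]
  have c1 : (Finset.univ.filter fun x : SL2 => x ∈ T).card = Fintype.card F + 1 := by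
    rw [← H.card, Nat.card_eq_fintype_card, Fintype.card_subtype]
  have c2 : (Finset.univ.filter fun x : SL2 => x ∈ N ∧ x ∉ T).card = Fintype.card F + 1 := by
    have hs : (Finset.univ.filter fun x : SL2 => x ∈ N).card = 2 * (Fintype.card F + 1) := by
      rw [← hN, Nat.card_eq_fintype_card, Fintype.card_subtype]
    have h := Finset.card_filter_add_card_filter_not (s := Finset.univ.filter fun x : SL2 => x ∈ N) (fun x => x ∈ T)
    rw [hs, Finset.filter_filter, Finset.filter_filter] at h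
    have : (Finset.univ.filter fun x : SL2 => x ∈ N ∧ x ∈ T).card = Fintype.card F + 1 := by
      rw [← c1]; congr 1; ext x; simp; exact fun hx => hTN hx
    omega
  rw [c1, c2, H.card]
  have h0 : ((Fintype.card F : ℂ) + 1) ≠ 0 := Nat.cast_add_one_ne_zero _
  push_cast
  field_simp

theorem indT_split (H : IsTorus T) (θ : T →* ℂˣ) {g : SL2} (hg : IsSplit g) (hgZ : g ∉ Subgroup.center SL2) :
    indT T θ g = 0 := by
  refine indFun_eq_zero _ _ fun x hx => ?_
  have hz : x⁻¹ * g * x ∉ Subgroup.center SL2 := fun hz => hgZ (by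
    have h := (inferInstance : (Subgroup.center SL2).Normal).conj_mem _ hz x
    simpa [mul_assoc] using h)
  apply (H.cell_facts hx hz).2.1
  obtain ⟨r, hr⟩ := hg
  refine ⟨r, ?_⟩
  rwa [Cfsg.Agent.Lib.SL2Trace.tr_eq_of_isConj (isConj_iff.mpr ⟨x, by group⟩ : IsConj (x⁻¹ * g * x) g)]

end Cfsg.Agent.Lib.OddChar.SL2
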